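import Cfsg.Agent.H881.U34.Inst
import Cfsg.Agent.H915.LD
import Cfsg.Agent.S0279
import Cfsg.Agent.S2089
import Cfsg.Agent.S0283

/-!
# `PSU₃(4)` in dimension at most 12, odd characteristic

`P ≤ GL(ι, F)` a core (`H915.LD.Core`), `F` finite of characteristic `p ≠ 2`, `e : P / scalars ≃ PSU₃(4)`, `|ι| ≤ 12`:

* `card_eq` : `|ι| = 12`;
* `scalars_eq_bot`, `sd`, `fr`, `fixA`, `not_fixQ`;
* `main` : all of this for `H912.Bd.IsU 3 4 (Soc P)`;
* `tr_eq` : `tr x = chiU hK (e x)` for an integral function `chiU hK : PSU 3 K 4 → ℤ`; `tr_eq_tr`;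
* `trivial_of_lt` : representations of perfect central extensions of `PSU₃(4)` of dimension less than 12 over a field
  with `2 ≠ 0` are trivial.
-/

set_option autoImplicit false
set_option linter.unusedSectionVars false
set_option linter.unusedVariables false

namespace Cfsg.Agent.H881.U34

open Cfsg Cfsg.Geo Module Cfsg.Agent.ClassicalGeometry Cfsg.Agent.H880 Matrix Cfsg.Agent.H915.LD

universe u v w

section

variable {K : Type v} [Field K] [Fintype K]

theorem center_bot (hK : Fintype.card K = 16) : Subgroup.center ↥(SU 3 K 4) = ⊥ := by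
  have h1 := S0279.result (F := K) (q := 4) (by rw [hK]; norm_num) 3 le_rfl
  have h2 : Nat.gcd 3 (4 + 1) = 1 := by norm_num
  rw [h2] at h1
  exact Subgroup.eq_bot_of_card_eq _ h1

theorem mult (hK : Fintype.card K = 16) : HasSchurMultiplier (PSU 3 K 4) (Multiplicative (ZMod 1)) := by
  have := S2089.result (F := K) 3 4 (by rw [hK]; norm_num) le_rfl (by norm_num) (by
    simp)
  norm_num at this
  exact this

/-- the field automorphism -/
noncomputable def sig (hK : Fintype.card K = 16) : K →+* K := (exists_fld hK).choose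

theorem sig_fld (hK : Fintype.card K = 16) : Fld (sig hK) := (exists_fld hK).choose_spec

/-- The character of degree 12 of `PSU₃(4)`. -/
noncomputable def chiU (hK : Fintype.card K = 16) (t : PSU 3 K 4) : ℤ := chi (sig hK) (Lnat K) t.out

variable {ι : Type} [Fintype ι] [DecidableEq ι] {F : Type u} [Field F] {P : Subgroup (GL ι F)}

/-- The representation of `SU 3 K 4`. -/
noncomputable def rep (e' : P ≃* PSU 3 K 4) : ↥(SU 3 K 4) →* Module.End F (ι → F) :=
  ((Matrix.toLinAlgEquiv' : Matrix ι ι F ≃ₐ[F] _) : Matrix ι ι F →* Module.End F (ι → F)).comp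
    ((Units.coeHom (Matrix ι ι F)).comp (P.subtype.comp (e'.symm.toMonoidHom.comp (QuotientGroup.mk' _))))

theorem rep_apply (e' : P ≃* PSU 3 K 4) (g : ↥(SU 3 K 4)) (v : ι → F) :
    rep e' g v = ((e'.symm (QuotientGroup.mk g) : P) : GL ι F).1 *ᵥ v := by
  show Matrix.toLinAlgEquiv' _ v = _
  rw [Matrix.toLinAlgEquiv'_apply]
  rfl

theorem rep_inj (hK : Fintype.card K = 16) (e' : P ≃* PSU 3 K 4) (g : ↥(SU 3 K 4)) (hg : rep e' g = 1) : g = 1 := by
  have h1 : ((e'.symm (QuotientGroup.mk g) : P) : GL ι F) = 1 := by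
    apply Units.ext
    apply Matrix.toLin'.injective
    refine LinearMap.ext fun v => ?_
    have := LinearMap.congr_fun hg v
    rw [rep_apply] at this
    rw [Matrix.toLin'_apply, this]
    simp
  have h2 : e'.symm (QuotientGroup.mk g) = 1 := Subtype.ext h1
  have h3 : (QuotientGroup.mk g : PSU 3 K 4) = 1 := by
    rw [MulEquiv.map_eq_one_iff] at h2
    exact h2
  rw [QuotientGroup.eq_one_iff, center_bot hK, Subgroup.mem_bot] at h3
  exact h3

theorem rep_trace (e' : P ≃* PSU 3 K 4) (g : ↥(SU 3 K 4)) :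
    LinearMap.trace F (ι → F) (rep e' g) = tr ((e'.symm (QuotientGroup.mk g) : P) : GL ι F) := by
  have h1 : rep e' g = Matrix.toLin' ((e'.symm (QuotientGroup.mk g) : P) : GL ι F).1 := by
    refine LinearMap.ext fun v => ?_
    rw [rep_apply, Matrix.toLin'_apply]
  rw [h1, Matrix.trace_toLin'_eq]
  rfl

theorem exists_equiv (hK : Fintype.card K = 16) (hC : Core P) (e : Soc P ≃* PSU 3 K 4) :
    ∃ e' : P ≃* PSU 3 K 4, ∀ x, e' x = e (toSoc P x) :=
  hC.equiv_of_coprime e (mult hK) (by simp)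

theorem scalars_bot (hK : Fintype.card K = 16) (hC : Core P) (e : Soc P ≃* PSU 3 K 4) :
    (scalars ι F).subgroupOf P = ⊥ :=
  hC.scalars_eq_bot e (mult hK) (by simp)

theorem card_ge (hK : Fintype.card K = 16) (h2 : (2 : F) ≠ 0) (hC : Core P) (e : Soc P ≃* PSU 3 K 4) :
    12 ≤ Fintype.card ι := by
  obtain ⟨e', he'⟩ := exists_equiv hK hC e
  have := twelve_le (su3 (sig_fld hK)) h2 (rep_inj hK e')
  rwa [Module.finrank_pi] at this

theorem card_eq (hK : Fintype.card K = 16) (h2 : (2 : F) ≠ 0) (hC : Core P) (e : Soc P ≃* PSU 3 K 4)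
    (hn : Fintype.card ι ≤ 12) : Fintype.card ι = 12 := le_antisymm hn (card_ge hK h2 hC e)

theorem tr_eq (hK : Fintype.card K = 16) (h2 : (2 : F) ≠ 0) (hC : Core P) (e : Soc P ≃* PSU 3 K 4)
    (hn : Fintype.card ι = 12) (x : P) : tr (x : GL ι F) = (chiU hK (e (toSoc P x)) : F) := by
  obtain ⟨e', he'⟩ := exists_equiv hK hC e
  have h1 := trace_eq (su3 (sig_fld hK)) h2 (rep_inj hK e') (by rw [Module.finrank_pi, hn]) (e (toSoc P x)).out
  rw [rep_trace] at h1
  have h3 : (QuotientGroup.mk (e (toSoc P x)).out : PSU 3 K 4) = e (toSoc P x) := Quotient.out_eq' _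
  rw [h3, ← he', MulEquiv.symm_apply_apply, he'] at h1
  exact h1

theorem tr_eq_tr (hK : Fintype.card K = 16) (h2 : (2 : F) ≠ 0) (hC : Core P) (e : Soc P ≃* PSU 3 K 4)
    (hn : Fintype.card ι = 12) {ι' : Type} [Fintype ι'] [DecidableEq ι'] {P' : Subgroup (GL ι' F)} (hC' : Core P')
    (e' : Soc P' ≃* PSU 3 K 4) (hn' : Fintype.card ι' = 12) {x : P} {x' : P'} (h : e (toSoc P x) = e' (toSoc P' x')) :
    tr (x : GL ι F) = tr (x' : GL ι' F) := by
  rw [tr_eq hK h2 hC e hn, tr_eq hK h2 hC' e' hn', h]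

theorem sd (hK : Fintype.card K = 16) (h2 : (2 : F) ≠ 0) (hC : Core P) (e : Soc P ≃* PSU 3 K 4)
    (hn : Fintype.card ι = 12) : SD P := by
  obtain ⟨e', he'⟩ := exists_equiv hK hC e
  intro g hg
  obtain ⟨a, ha⟩ := QuotientGroup.mk_surjective (e' ⟨g, hg⟩)
  have h1 := trace_inv (su3 (sig_fld hK)) h2 (rep_inj hK e') (by rw [Module.finrank_pi, hn]) a
  rw [rep_trace, rep_trace, QuotientGroup.mk_inv, map_inv, ha, MulEquiv.symm_apply_apply] at h1
  exact h1

theorem fr (hK : Fintype.card K = 16) (h2 : (2 : F) ≠ 0) (hC : Core P) (e : Soc P ≃* PSU 3 K 4)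
    (hn : Fintype.card ι = 12) (p : ℕ) [hp : Fact p.Prime] [CharP F p] : Fr P p := by
  intro g hg
  rw [show g = ((⟨g, hg⟩ : P) : GL ι F) from rfl, tr_eq hK h2 hC e hn, ← frobenius_def, map_intCast]

theorem not_fixQ (hK : Fintype.card K = 16) (h2 : (2 : F) ≠ 0) (hC : Core P) (e : Soc P ≃* PSU 3 K 4)
    (hn : Fintype.card ι = 12) : ¬ FixQ P := by
  rintro ⟨Q, hQ, hP⟩
  obtain ⟨e', he'⟩ := exists_equiv hK hC e
  have hb := hQ.polar_bilinear
  let B : (ι → F) →ₗ[F] (ι → F) →ₗ[F] F := LinearMap.mk₂ F (QuadraticMap.polar Q) hb.add_left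
    (fun c x v => hb.smul_left c x v) hb.add_right (fun c v x => hb.smul_right c v x)
  have hB : ∀ v w, B v w = QuadraticMap.polar Q v w := fun v w => rfl
  obtain ⟨v, hv0, hv⟩ := no_form (su3 (sig_fld hK)) h2 (rep_inj hK e') (by rw [Module.finrank_pi, hn]) (B := B)
    (fun v w => by rw [hB, hB, QuadraticMap.polar_comm]) (fun g v w => by
      rw [hB, hB, rep_apply, rep_apply]
      have h3 := hP ((e'.symm (QuotientGroup.mk g) : P) : GL ι F).1
        ⟨_, (e'.symm (QuotientGroup.mk g)).2, rfl⟩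
      unfold QuadraticMap.polar
      rw [← Matrix.mulVec_add, h3, h3, h3])
  obtain ⟨x, hx⟩ := (hQ.nondegenerate v hv0).2
  exact hx (hv x)

theorem fixA [Finite F] (hK : Fintype.card K = 16) (h2 : (2 : F) ≠ 0) (hC : Core P) (e : Soc P ≃* PSU 3 K 4)
    (hn : Fintype.card ι = 12) : FixA P :=
  (hC.forms_of_sd (sd hK h2 hC e hn)).resolve_left (not_fixQ hK h2 hC e hn)

/-- Everything; `h` is `H912.Bd.IsU 3 4 (Soc P)`. -/
theorem main [Finite F] (p : ℕ) [hp : Fact p.Prime] [CharP F p] (hp2 : p ≠ 2) (hC : Core P) (hn : Fintype.card ι ≤ 12)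
    (h : ∃ (K : Type) (_ : Field K) (_ : Fintype K), Fintype.card K = 4 ^ 2 ∧ Nonempty (Soc P ≃* PSU 3 K 4)) :
    Fintype.card ι = 12 ∧ (scalars ι F).subgroupOf P = ⊥ ∧ SD P ∧ Fr P p ∧ FixA P ∧ ¬ FixQ P := by
  obtain ⟨K, _, _, hK, ⟨e⟩⟩ := h
  have hK' : Fintype.card K = 16 := by rw [hK]; norm_num
  have h2 : (2 : F) ≠ 0 := by
    intro h0
    have h1 : ((2 : ℕ) : F) = 0 := by exact_mod_cast h0
    rw [CharP.cast_eq_zero_iff F p, Nat.prime_dvd_prime_iff_eq hp.out Nat.prime_two] at h1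
    exact hp2 h1
  have hn' := card_eq hK' h2 hC e hn
  exact ⟨hn', scalars_bot hK' hC e, sd hK' h2 hC e hn', fr hK' h2 hC e hn' p, fixA hK' h2 hC e hn',
    not_fixQ hK' h2 hC e hn'⟩

/-- Representations of dimension less than 12 are trivial. -/
theorem trivial_of_lt (hK : Fintype.card K = 16) {X : Type w} [Group X] (hX : commutator X = ⊤) (π : X →* PSU 3 K 4)
    (hπ : Function.Surjective π) (hc : π.ker ≤ Subgroup.center X) {k V : Type*} [Field k] (h2 : (2 : k) ≠ 0)
    [AddCommGroup V] [Module k V] [FiniteDimensional k V] (hn : finrank k V < 12) (ρ : X →* Module.End k V) (x : X) :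
    ρ x = 1 := by
  have hinj : Function.Injective π := by
    refine H95.StemCover.injective_of_trivial ?_ hX π hπ hc
    exact mult hK
  let e : X ≃* PSU 3 K 4 := MulEquiv.ofBijective π ⟨hinj, hπ⟩
  have hs : IsSimpleGroup (PSU 3 K 4) := S0283.result (q := 4) (by rw [hK]; norm_num) 3 le_rfl (by norm_num)
  let f : PSU 3 K 4 →* Module.End k V := ρ.comp e.symm.toMonoidHom
  rcases hs.eq_bot_or_eq_top_of_normal f.ker inferInstance with h | h
  · exfalso
    have h3 := twelve_le (su3 (sig_fld hK)) h2 (ρ := f.comp (QuotientGroup.mk' _)) (fun g hg => by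
      have h4 : (QuotientGroup.mk g : PSU 3 K 4) ∈ f.ker := hg
      rw [h, Subgroup.mem_bot, QuotientGroup.eq_one_iff, center_bot hK, Subgroup.mem_bot] at h4
      exact h4)
    omega
  · have h3 : e x ∈ f.ker := by rw [h]; trivial
    have h4 : ρ (e.symm (e x)) = 1 := h3
    rwa [MulEquiv.symm_apply_apply] at h4

/-- The same for matrices. -/
theorem trivial_of_lt' (hK : Fintype.card K = 16) {X : Type w} [Group X] (hX : commutator X = ⊤) (π : X →* PSU 3 K 4)
    (hπ : Function.Surjective π) (hc : π.ker ≤ Subgroup.center X) {k : Type*} [Field k] (h2 : (2 : k) ≠ 0)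
    (hn : Fintype.card ι < 12) (ρ : X →* GL ι k) (x : X) : ρ x = 1 := by
  have h1 := trivial_of_lt hK hX π hπ hc h2 (V := ι → k) (by rw [Module.finrank_pi]; exact hn)
    (((Matrix.toLinAlgEquiv' : Matrix ι ι k ≃ₐ[k] _) : Matrix ι ι k →* Module.End k (ι → k)).comp
      ((Units.coeHom (Matrix ι ι k)).comp ρ)) x
  apply Units.ext
  apply (Matrix.toLinAlgEquiv' : Matrix ι ι k ≃ₐ[k] _).injective
  rw [Units.val_one, map_one]
  exact h1

end

end Cfsg.Agent.H881.U34
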