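import Cfsg.Agent.H881.U34.Grp

/-!
Class functions on `SU₃(4)` whose sums over the cosets of the root groups vanish: values on elements fixing an
isotropic point.
-/

set_option autoImplicit false
set_option linter.unusedSectionVars false
set_option linter.unusedVariables false

namespace Cfsg.Agent.H881.U34

open Module Cfsg.Agent.ClassicalGeometry Cfsg.Agent.H880

variable {K : Type*} [Field K] [Fintype K] {σ : K →+* K} {G : Type*} [Group G]
  {L : G →* ((Fin 3 → K) ≃ₗ[K] (Fin 3 → K))} {F : Type*} [Field F] {θ : G → F}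

/-- Class functions with vanishing sums over cosets of root groups, `θ 1 = 12`. -/
structure Cusp (σ : K →+* K) (L : G →* ((Fin 3 → K) ≃ₗ[K] (Fin 3 → K))) (θ : G → F) : Prop where
  conj : ∀ x g, θ (x * g * x⁻¹) = θ g
  rel : ∀ {u : Fin 3 → K} {w : K} {z1 z2 z3 : G}, u ≠ 0 → stB σ 3 u u = 0 → w ^ 2 + w + 1 = 0 →
    IsT σ L u 1 z1 → IsT σ L u w z2 → IsT σ L u (w ^ 2) z3 → ∀ g, θ g + θ (g * z1) + θ (g * z2) + θ (g * z3) = 0
  one : θ 1 = 12
  tv : ∀ {u : Fin 3 → K} {c : K} {z : G}, u ≠ 0 → stB σ 3 u u = 0 → c ^ 4 = c → c ≠ 0 → IsT σ L u c z → θ z = -4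

theorem Cusp.comm (hθ : Cusp σ L θ) (a b : G) : θ (a * b) = θ (b * a) := by
  have := hθ.conj b (a * b)
  rw [← this]
  congr 1
  group

theorem exists_cube (h : Fld σ) : ∃ w : K, w ^ 2 + w + 1 = 0 := by
  obtain ⟨r, hr⟩ := h.exists_phi
  exact ⟨_, hr.w h⟩

theorem cube_fix {w : K} (hw : w ^ 2 + w + 1 = 0) : w ^ 4 = w := by linear_combination (w ^ 2 - w) * hw

theorem cube_fix2 {w : K} (hw : w ^ 2 + w + 1 = 0) : (w ^ 2) ^ 4 = w ^ 2 := by
  linear_combination (w ^ 6 - w ^ 5 + w ^ 3 - w ^ 2) * hw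

theorem cube_ne_zero {w : K} (hw : w ^ 2 + w + 1 = 0) : w ≠ 0 := by
  rintro rfl
  norm_num at hw

theorem SU3.eigen_ne (hL : SU3 σ L) {g : G} {u : Fin 3 → K} {t : K} (hu0 : u ≠ 0) (hg : L g u = t • u) : t ≠ 0 := by
  rintro rfl
  rw [zero_smul] at hg
  exact hu0 ((L g).map_eq_zero_iff.mp hg)

theorem SU3.eigen_form (hL : SU3 σ L) {g : G} {u : Fin 3 → K} {t : K} (hu0 : u ≠ 0) (hg : L g u = t • u)
    (x : Fin 3 → K) : t ^ 4 * stB σ 3 u (L g x) = stB σ 3 u x := by
  rw [← hL.iso g u x, hg, LinearMap.map_smulₛₗ₂, hL.fld.conj, smul_eq_mul]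

/-- (C1) elements fixing an isotropic point with eigenvalue of norm `≠ 1`. -/
theorem Cusp.eigen (hL : SU3 σ L) (h2 : (2 : F) ≠ 0) (hθ : Cusp σ L θ) {g : G} {u : Fin 3 → K} {t : K} (hu0 : u ≠ 0)
    (hu : stB σ 3 u u = 0) (hg : L g u = t • u) (ht : t ^ 5 ≠ 1) : θ g = 0 := by
  have h := hL.fld
  have ht0 := hL.eigen_ne hu0 hg
  have key : ∀ c : K, c ^ 4 = c → ∀ z, IsT σ L u c z → θ (g * z) = θ g := by
    intro c hc z hz
    have hn : (1 : K) - t ^ 5 ≠ 0 := fun h1 => ht (sub_eq_zero.mp h1).symm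
    have hd4 : (c * t ^ 5 / (1 - t ^ 5)) ^ 4 = c * t ^ 5 / (1 - t ^ 5) := by
      have e1 := h.norm_fix t
      have e2 : (1 - t ^ 5) ^ 4 = 1 - t ^ 5 := by
        linear_combination e1 + (-2 * t ^ 5 + 3 * (t ^ 5) ^ 2 - 2 * (t ^ 5) ^ 3 + t ^ 5) * h.two
      rw [div_pow, mul_pow, hc, e1, e2]
    obtain ⟨z', hz'⟩ := hL.exists_T hu hd4
    have hd : c * t ^ 5 / (1 - t ^ 5) * (1 - t ^ 5) = c * t ^ 5 := div_mul_cancel₀ _ hn
    set d := c * t ^ 5 / (1 - t ^ 5) with hd_def
    have e1 : z' * g = g * z * z' := by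
      apply hL.ext
      intro x
      have e2 := hL.eigen_form hu0 hg x
      rw [map_mul, map_mul, map_mul, LinearEquiv.mul_apply, LinearEquiv.mul_apply, LinearEquiv.mul_apply, hz', hz',
        hz, map_add (stB σ 3 u), map_smul (stB σ 3 u), hu, smul_zero, add_zero, map_add, map_add, map_smul, map_smul, hg,
        smul_smul, smul_smul, add_assoc, ← add_smul]
      congr 2
      have e3 : t ^ 4 * (d * stB σ 3 u (L g x)) = t ^ 4 * (d * stB σ 3 u x * t + c * stB σ 3 u x * t) := by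
        linear_combination d * e2 + (stB σ 3 u x) * hd
      exact mul_left_cancel₀ (pow_ne_zero 4 ht0) e3
    have e4 : z' * g * z'⁻¹ = g * z := by rw [e1, mul_inv_cancel_right]
    rw [← e4, hθ.conj]
  obtain ⟨w, hw⟩ := exists_cube h
  obtain ⟨z1, hz1⟩ := hL.exists_T hu (c := 1) (one_pow 4)
  obtain ⟨z2, hz2⟩ := hL.exists_T hu (cube_fix hw)
  obtain ⟨z3, hz3⟩ := hL.exists_T hu (cube_fix2 hw)
  have hr := hθ.rel hu0 hu hw hz1 hz2 hz3 g
  rw [key 1 (one_pow 4) z1 hz1, key w (cube_fix hw) z2 hz2, key (w ^ 2) (cube_fix2 hw) z3 hz3] at hr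
  have h4 : (2 * 2 : F) * θ g = 0 := by linear_combination hr
  exact (mul_eq_zero.mp h4).resolve_left (mul_ne_zero h2 h2)

/-- The coordinates of a frame. -/
theorem Frame.repr (h : Fld σ) {u v w : Fin 3 → K} (hf : Frame σ u v w) (x : Fin 3 → K) (i : Fin 3) :
    (hf.basis h).repr x i = ![stB σ 3 w x, stB σ 3 v x, stB σ 3 u x] i := by
  have h1 : x = ∑ i, ![stB σ 3 w x, stB σ 3 v x, stB σ 3 u x] i • (hf.basis h) i := by
    rw [Fin.sum_univ_three, hf.basis_apply, hf.basis_apply, hf.basis_apply]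
    exact hf.expand h x
  conv_lhs => rw [h1]
  rw [Basis.repr_sum_self]

/-- The Borel form. -/
theorem SU3.borel (hL : SU3 σ L) {g : G} {u v w : Fin 3 → K} (hf : Frame σ u v w) {t : K} (hg : L g u = t • u) :
    ∃ b c d : K, L g v = t ^ 3 • v + b • u ∧ L g w = (t ^ 4)⁻¹ • w + d • v + c • u := by
  have h := hL.fld
  have hu0 : u ≠ 0 := by
    rintro rfl
    have := hf.uw
    rw [map_zero] at this
    exact zero_ne_one this
  have ht0 := hL.eigen_ne hu0 hg
  have e1 : stB σ 3 u (L g v) = 0 := by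
    have := hL.eigen_form hu0 hg v
    rw [hf.uv] at this
    exact (mul_eq_zero.mp this).resolve_left (pow_ne_zero 4 ht0)
  have e2 : stB σ 3 u (L g w) = (t ^ 4)⁻¹ := by
    have := hL.eigen_form hu0 hg w
    rw [hf.uw] at this
    exact eq_inv_of_mul_eq_one_right this
  have hdet := hL.det g
  rw [← LinearMap.det_toMatrix (hf.basis h), Matrix.det_fin_three] at hdet
  have hM : ∀ i j, LinearMap.toMatrix (hf.basis h) (hf.basis h) (L g : (Fin 3 → K) →ₗ[K] (Fin 3 → K)) i j =
      ![stB σ 3 w (L g (![u, v, w] j)), stB σ 3 v (L g (![u, v, w] j)), stB σ 3 u (L g (![u, v, w] j))] i := by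
    intro i j
    rw [LinearMap.toMatrix_apply, hf.repr, hf.basis_apply]
    rfl
  simp only [hM] at hdet
  simp only [Matrix.cons_val_zero, Matrix.cons_val_one, Matrix.cons_val, hg, map_smul, hf.uu, hf.vu h, hf.wu h, e1, e2,
    smul_eq_mul, mul_zero, zero_mul, mul_one, sub_zero, add_zero] at hdet
  have e3 : stB σ 3 v (L g v) = t ^ 3 := by
    field_simp at hdet
    exact hdet
  refine ⟨stB σ 3 w (L g v), stB σ 3 w (L g w), stB σ 3 v (L g w), ?_, ?_⟩
  · have := hf.expand h (L g v)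
    rw [e1, e3, zero_smul, add_zero, add_comm] at this
    exact this
  · have := hf.expand h (L g w)
    rw [e2] at this
    rw [this]
    simp only [map_add, map_smul, smul_eq_mul, hf.wu h, hf.wv h, hf.ww, hf.vu h, hf.vv, hf.vw, mul_one, mul_zero,
      add_zero, zero_add]
    abel

/-- (C2) unipotent elements which are not transvections. -/
theorem Cusp.unip (hL : SU3 σ L) (h2 : (2 : F) ≠ 0) (hθ : Cusp σ L θ) {g : G} {u : Fin 3 → K} (hu0 : u ≠ 0)
    (hu : stB σ 3 u u = 0) (hg : L g u = u) (hT : ∀ c : K, c ^ 4 = c → ¬ IsT σ L u c g) : θ g = 0 := by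
  have h := hL.fld
  have hS := hL.symm
  obtain ⟨v, w, hf⟩ := exists_frame h hu0 hu
  obtain ⟨b, c, d, h3, h4⟩ := hL.borel hf (t := 1) (by rw [hg, one_smul])
  rw [one_pow, one_smul] at h3
  rw [one_pow, inv_one, one_smul] at h4
  have hBu : ∀ x, stB σ 3 u (L g x) = stB σ 3 u x := fun x => by
    have := hL.iso g u x
    rwa [hg] at this
  have hb : b ≠ 0 := by
    rintro rfl
    rw [zero_smul, add_zero] at h3
    have e1 : d = 0 := by
      have := hL.iso g v w
      rw [h3, h4, hf.vw] at this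
      simp only [map_add, map_smul, smul_eq_mul, hf.vw, hf.vv, hf.vu h, mul_one, mul_zero, add_zero, zero_add] at this
      exact this
    rw [e1, zero_smul, add_zero] at h4
    have e2 : c ^ 4 = c := by
      have := hL.iso g w w
      rw [h4, hf.ww] at this
      simp only [map_add, map_smul, LinearMap.add_apply, LinearMap.map_smulₛₗ₂, smul_eq_mul, hf.ww, hf.wu h, hf.uw,
        hf.uu, mul_one, mul_zero, add_zero, zero_add, h.conj] at this
      linear_combination this - c * h.two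
    refine hT c e2 fun x => ?_
    have e3 : (L g : (Fin 3 → K) →ₗ[K] (Fin 3 → K)) = LinearMap.id + c • (stB σ 3 u).smulRight u := by
      apply hf.ext h
      · show L g u = u + c • (stB σ 3 u u • u)
        rw [hg, hu, zero_smul, smul_zero, add_zero]
      · show L g v = v + c • (stB σ 3 u v • u)
        rw [h3, hf.uv, zero_smul, smul_zero, add_zero]
      · show L g w = w + c • (stB σ 3 u w • u)
        rw [h4, hf.uw, one_smul]
    have := LinearMap.congr_fun e3 x
    rw [mul_smul]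
    exact this
  have key : ∀ c' : K, c' ^ 4 = c' → ∀ z, IsT σ L u c' z → θ (g * z) = θ g := by
    intro c' hc' z hz
    obtain ⟨k, hk⟩ := h.trace_surj hc'
    have hx0 : stB σ 3 u ((k / b) • v) = 0 := by rw [map_smul, hf.uv, smul_zero]
    have hgx0 : L g ((k / b) • v) = (k / b) • v + k • u := by
      rw [map_smul, h3, smul_add, smul_smul, div_mul_cancel₀ _ hb]
    generalize (k / b) • v = x0 at hx0 hgx0
    obtain ⟨ν, hν⟩ := h.trace_surj (c := stB σ 3 x0 x0) (by
      rw [← h.conj, hS.eq])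
    obtain ⟨s', hs', hs1, hs2⟩ := exists_siegel hS hu hx0 hν
    obtain ⟨s, hs⟩ := hL.surj s' hs1 hs2
    have hsx : ∀ x, L s x = x + stB σ 3 u x • x0 - (stB σ 3 x0 x + ν * stB σ 3 u x) • u := by
      intro x
      rw [hs, hs']
    have hsu : L s u = u := by
      rw [hsx, hu, symm_zero hS hx0]
      simp
    have e1 : g * s = z * s * g := by
      apply hL.ext
      intro x
      have e5 : stB σ 3 x0 (L g x) = stB σ 3 x0 x - σ k * stB σ 3 u x := by
        have := hL.iso g x0 x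
        rw [hgx0, map_add, LinearMap.add_apply, LinearMap.map_smulₛₗ₂ (stB σ 3) k u, hBu, smul_eq_mul] at this
        linear_combination this
      rw [map_mul, map_mul, map_mul, LinearEquiv.mul_apply, LinearEquiv.mul_apply, LinearEquiv.mul_apply, hsx, hsx, hz,
        e5, hBu]
      simp only [map_add, map_sub, map_smul, hgx0, hg, hBu, hx0, hu, smul_eq_mul, mul_zero,
        add_zero, sub_zero]
      have e6 : k = c' + σ k := by linear_combination hk - σ k * h.two
      have e7 : stB σ 3 u x • k • u = (c' * stB σ 3 u x) • u + (σ k * stB σ 3 u x) • u := by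
        rw [smul_smul, ← add_smul]
        congr 1
        linear_combination (stB σ 3 u x) * e6
      rw [smul_add, e7]
      module
    have e2 : s⁻¹ * g * s = z * g := by
      have e3 : z * s = s * z := by
        have e8 := hz.conj hL s
        rw [hsu] at e8
        have := e8.eq hL hz
        rw [mul_inv_eq_iff_eq_mul] at this
        exact this.symm
      rw [mul_assoc, e1, e3, mul_assoc, inv_mul_cancel_left]
    have e3 := hθ.conj s⁻¹ g
    rw [inv_inv, e2] at e3
    rw [hθ.comm, e3]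
  obtain ⟨w, hw⟩ := exists_cube h
  obtain ⟨z1, hz1⟩ := hL.exists_T hu (c := 1) (one_pow 4)
  obtain ⟨z2, hz2⟩ := hL.exists_T hu (cube_fix hw)
  obtain ⟨z3, hz3⟩ := hL.exists_T hu (cube_fix2 hw)
  have hr := hθ.rel hu0 hu hw hz1 hz2 hz3 g
  rw [key 1 (one_pow 4) z1 hz1, key w (cube_fix hw) z2 hz2, key (w ^ 2) (cube_fix2 hw) z3 hz3] at hr
  have h4 : (2 * 2 : F) * θ g = 0 := by linear_combination hr
  exact (mul_eq_zero.mp h4).resolve_left (mul_ne_zero h2 h2)

end Cfsg.Agent.H881.U34
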