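import Cfsg.Agent.H881.U34.Std

/-!
Elements of `SU₃(4)` by their trace: eigenvectors.
-/

set_option autoImplicit false
set_option linter.unusedSectionVars false
set_option linter.unusedVariables false

namespace Cfsg.Agent.H881.U34

open Module Cfsg.Agent.ClassicalGeometry Cfsg.Agent.H880

variable {K : Type*} [Field K] [Fintype K] {σ : K →+* K} {G : Type*} [Group G]
  {L : G →* ((Fin 3 → K) ≃ₗ[K] (Fin 3 → K))} {F : Type*} [Field F] {θ : G → F}

theorem SU3.norm_eigen (hL : SU3 σ L) {g : G} {x : Fin 3 → K} {t : K} (hg : L g x = t • x) (ht : t ^ 5 ≠ 1) :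
    stB σ 3 x x = 0 := by
  have h1 := hL.iso g x x
  rw [hg, map_smul, LinearMap.map_smulₛₗ₂, hL.fld.conj, smul_eq_mul, smul_eq_mul] at h1
  have h2 : (t ^ 5 - 1) * stB σ 3 x x = 0 := by linear_combination h1
  exact (mul_eq_zero.mp h2).resolve_left (sub_ne_zero.mpr ht)

theorem Cusp.zero_of_root (hL : SU3 σ L) (h2 : (2 : F) ≠ 0) (hθ : Cusp σ L θ) {g : G} {t : K}
    (ht : t ^ 3 - ta L g * t ^ 2 + (ta L g) ^ 4 * t - 1 = 0) (ht5 : t ^ 5 ≠ 1) : θ g = 0 := by
  obtain ⟨x, hx0, hx⟩ := hL.root g ht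
  exact hθ.eigen hL h2 hx0 (hL.norm_eigen hx ht5) hx ht5

theorem Cusp.ta_zero (hL : SU3 σ L) (h2 : (2 : F) ≠ 0) (hθ : Cusp σ L θ) {g : G} (hg : ta L g = 0) : θ g = 0 := by
  obtain ⟨w, hw⟩ := exists_cube hL.fld
  refine hθ.zero_of_root hL h2 (t := w) ?_ ?_
  · rw [hg]
    linear_combination (w - 1) * hw
  · intro h5
    have h3 : w ^ 3 = 1 := by linear_combination (w - 1) * hw
    have h4 : w ^ 2 = 1 := by
      calc w ^ 2 = w ^ 5 := by rw [pow_succ w 4, pow_succ w 3, h3]; ring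
        _ = 1 := h5
    have h6 : w = 1 := by
      calc w = w ^ 3 := by rw [pow_succ w 2, h4, one_mul]
        _ = 1 := h3
    rw [h6] at hw
    have : (1 : K) = 0 := by linear_combination hw - hL.fld.two
    exact one_ne_zero this

theorem Cusp.ta_15 (hL : SU3 σ L) (h2 : (2 : F) ≠ 0) (hθ : Cusp σ L θ) {g : G} {a : K} (ha : a ^ 4 + a + 1 = 0)
    (hg : ta L g = a) : θ g = 0 := by
  refine hθ.zero_of_root hL h2 (t := 1 + a ^ 2) ?_ (root15_ne hL.fld ha)
  rw [hg]
  exact root15 hL.fld ha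

/-- Two-dimensional eigenspaces. -/
theorem quad_eigen {g : G} {α β : K} (H : ∀ x, L g (L g x - β • x) = α • (L g x - β • x)) :
    ∃ (E : Submodule K (Fin 3 → K)) (s : K), (s = α ∨ s = β) ∧ 2 ≤ finrank K E ∧ ∀ x ∈ E, L g x = s • x := by
  let f : (Fin 3 → K) →ₗ[K] (Fin 3 → K) := (L g : (Fin 3 → K) →ₗ[K] (Fin 3 → K)) - β • LinearMap.id
  have h1 := LinearMap.finrank_range_add_finrank_ker f
  rw [Module.finrank_pi, Fintype.card_fin] at h1
  by_cases h2 : 2 ≤ finrank K (LinearMap.ker f)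
  · refine ⟨LinearMap.ker f, β, Or.inr rfl, h2, fun x hx => ?_⟩
    have : L g x - β • x = 0 := hx
    exact sub_eq_zero.mp this
  · refine ⟨LinearMap.range f, α, Or.inl rfl, by omega, ?_⟩
    rintro _ ⟨x, rfl⟩
    exact H x

theorem iso_in (h : Fld σ) {E : Submodule K (Fin 3 → K)} (hE : 2 ≤ finrank K E) :
    ∃ u ∈ E, u ≠ 0 ∧ stB σ 3 u u = 0 := by
  have hS := stB_symm h.conj2 3
  have h1 : E ≠ ⊥ := by
    rintro rfl
    rw [finrank_bot] at hE
    omega
  obtain ⟨x, hxE, hx0⟩ := Submodule.exists_mem_ne_zero_of_ne_bot h1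
  by_cases hxx : stB σ 3 x x = 0
  · exact ⟨x, hxE, hx0, hxx⟩
  have h2 : LinearMap.ker ((stB σ 3 x).comp E.subtype) ≠ ⊥ := by
    apply LinearMap.ker_ne_bot_of_finrank_lt
    rw [finrank_self]
    omega
  obtain ⟨y, hy, hy0⟩ := Submodule.exists_mem_ne_zero_of_ne_bot h2
  have hxy : stB σ 3 x (y : Fin 3 → K) = 0 := hy
  have hy0' : (y : Fin 3 → K) ≠ 0 := fun h3 => hy0 (Subtype.ext h3)
  by_cases hyy : stB σ 3 (y : Fin 3 → K) (y : Fin 3 → K) = 0
  · exact ⟨y, y.2, hy0', hyy⟩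
  have e1 : (stB σ 3 x x) ^ 4 = stB σ 3 x x := by rw [← h.conj, hS.eq]
  have e2 : (stB σ 3 (y : Fin 3 → K) (y : Fin 3 → K)) ^ 4 = stB σ 3 (y : Fin 3 → K) (y : Fin 3 → K) := by
    rw [← h.conj, hS.eq]
  obtain ⟨k, hk0, hk⟩ := h.norm_surj (c := stB σ 3 (y : Fin 3 → K) (y : Fin 3 → K) / stB σ 3 x x)
    (by rw [div_pow, e1, e2]) (div_ne_zero hyy hxx)
  refine ⟨k • x + (y : Fin 3 → K), E.add_mem (E.smul_mem _ hxE) y.2, ?_, ?_⟩
  · intro h3
    have := congrArg (stB σ 3 x) h3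
    rw [map_add, map_smul, hxy, map_zero, add_zero, smul_eq_mul] at this
    exact mul_ne_zero hk0 hxx this
  · simp only [map_add, LinearMap.add_apply, map_smul, LinearMap.map_smulₛₗ₂, hxy, symm_zero hS hxy, smul_eq_mul,
      h.conj, mul_zero, add_zero, zero_add]
    have h3 : k ^ 5 * stB σ 3 x x = stB σ 3 (y : Fin 3 → K) (y : Fin 3 → K) := by rw [hk, div_mul_cancel₀ _ hxx]
    linear_combination h3 + (stB σ 3 (y : Fin 3 → K) (y : Fin 3 → K)) * h.two

theorem SU3.exists_iso_eigen (hL : SU3 σ L) {g : G} {t : K} (ht : t ^ 5 = 1) (hg : ta L g = t ^ 3) :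
    ∃ u, u ≠ 0 ∧ stB σ 3 u u = 0 ∧ L g u = t • u := by
  have h := hL.fld
  have ht0 : t ≠ 0 := by
    rintro rfl
    norm_num at ht
  by_cases H : ∀ x, L g (L g x - t ^ 3 • x) = t • (L g x - t ^ 3 • x)
  · obtain ⟨E, s, hs, hE, hEs⟩ := quad_eigen H
    obtain ⟨u, huE, hu0, hu⟩ := iso_in h hE
    have hs5 : s ^ 5 = 1 := by
      rcases hs with rfl | rfl
      · exact ht
      · rw [← pow_mul, mul_comm, pow_mul, ht, one_pow]
    have h1 := hL.ta_eigen' hu0 hu (hEs u huE) hs5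
    rw [hg] at h1
    refine ⟨u, hu0, hu, ?_⟩
    rw [hEs u huE]
    rcases hs with rfl | rfl
    · rfl
    · have h2 : t = 1 := by
        have h3 : t ^ 3 * t = t ^ 3 * 1 := by
          rw [mul_one]
          calc t ^ 3 * t = t ^ 9 := by
                calc t ^ 3 * t = t ^ 4 * 1 := by ring
                  _ = t ^ 4 * t ^ 5 := by rw [ht]
                  _ = t ^ 9 := by ring
            _ = (t ^ 3) ^ 3 := by ring
            _ = t ^ 3 := h1.symm
        exact mul_left_cancel₀ (pow_ne_zero 3 ht0) h3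
      rw [h2, one_pow]
  · push Not at H
    obtain ⟨x, hx⟩ := H
    set y := L g x - t ^ 3 • x with hy
    have h1 : L g (L g y - t • y) = t • (L g y - t • y) := by
      have h2 := hL.ch g x
      rw [hg] at h2
      rw [hy]
      simp only [map_sub, map_smul, h2]
      linear_combination (norm := module) (-(t ^ 2 * (t ^ 5 + 1)) * ht) • (L g x) - ht • x - (t * h.two) • (L g (L g x)) +
        (t ^ 4 * h.two) • (L g x)
    refine ⟨L g y - t • y, sub_ne_zero.mpr hx, ?_, h1⟩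
    set u' := L g y - t • y with hu'
    have h3 : stB σ 3 y u' = t * stB σ 3 (L g y) u' := by
      rw [← hL.iso g y u', h1, map_smul, smul_eq_mul]
    have h4 : stB σ 3 u' u' = stB σ 3 (L g y) u' - t ^ 4 * stB σ 3 y u' := by
      nth_rewrite 1 [hu']
      rw [map_sub (stB σ 3), LinearMap.sub_apply, LinearMap.map_smulₛₗ₂, h.conj, smul_eq_mul]
    rw [h4, h3]
    linear_combination (-stB σ 3 (L g y) u') * ht

/-- no eigenvectors -/
def Irr (L : G →* ((Fin 3 → K) ≃ₗ[K] (Fin 3 → K))) (g : G) : Prop := ∀ (t : K) (x : Fin 3 → K), L g x = t • x → x = 0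

theorem SU3.irr (hL : SU3 σ L) {g : G} {r : K} (hr : Phi r) (hg : ta L g = 1 + r) : Irr L g := by
  intro t x hx
  by_contra hx0
  apply no_root hL.fld hr t
  have h1 := hL.ch g x
  rw [hg, hx] at h1
  simp only [map_smul, hx] at h1
  have h2 : (t ^ 3 - (1 + r) * t ^ 2 + (1 + r) ^ 4 * t - 1) • x = 0 := by
    linear_combination (norm := module) h1
  exact (smul_eq_zero.mp h2).resolve_right hx0

theorem Irr.nonquad {g z : G} (hg : Irr L g) {u : Fin 3 → K} {c : K} (hz : IsT σ L u c z) (α β : K) :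
    ¬ ∀ x, L (g * z) (L (g * z) x - β • x) = α • (L (g * z) x - β • x) := by
  intro H
  obtain ⟨E, s, hs, hE, hEs⟩ := quad_eigen H
  have h2 : LinearMap.ker ((stB σ 3 u).comp E.subtype) ≠ ⊥ := by
    apply LinearMap.ker_ne_bot_of_finrank_lt
    rw [finrank_self]
    omega
  obtain ⟨y, hy, hy0⟩ := Submodule.exists_mem_ne_zero_of_ne_bot h2
  have huy : stB σ 3 u (y : Fin 3 → K) = 0 := hy
  have h3 := hEs y y.2
  rw [map_mul, LinearEquiv.mul_apply, hz, huy, mul_zero, zero_smul, add_zero] at h3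
  exact hy0 (Subtype.ext (hg s _ h3))

theorem Irr.ten (hL : SU3 σ L) {g z : G} (hg : Irr L g) {u : Fin 3 → K} {c : K} (hz : IsT σ L u c z) {t : K}
    (ht5 : t ^ 5 = 1) (ht1 : t ≠ 1) (ha : ta L (g * z) = t ^ 3) : Std σ L 1 t (g * z) := by
  have h := hL.fld
  obtain ⟨u', hu0, hu', hgu⟩ := hL.exists_iso_eigen ht5 ha
  obtain ⟨e, he, hst⟩ := hL.ten_or_hom hu0 hu' hgu ht5 ht1
  by_cases he0 : e = 0
  · exfalso
    apply hg.nonquad hz t (t ^ 3)
    rw [he0] at hst
    obtain ⟨u, v, w, hf, h1, h2, h3⟩ := hst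
    rw [zero_smul, add_zero] at h3
    intro x
    have hx := hf.expand h x
    generalize stB σ 3 w x = x1 at hx
    generalize stB σ 3 v x = x2 at hx
    generalize stB σ 3 u x = x3 at hx
    rw [hx]
    simp only [map_add, map_sub, map_smul, h1, h2, h3]
    module
  · exact hst.scale h he he0

theorem Irr.unip (hL : SU3 σ L) (h2 : (2 : F) ≠ 0) (hθ : Cusp σ L θ) {g z : G} (hg : Irr L g) {u : Fin 3 → K} {c : K}
    (hz : IsT σ L u c z) (ha : ta L (g * z) = 1) : θ (g * z) = 0 := by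
  have h := hL.fld
  obtain ⟨u', hu0, hu', hgu⟩ := hL.exists_iso_eigen (one_pow 5) (by rw [ha, one_pow])
  rw [one_smul] at hgu
  refine hθ.unip hL h2 hu0 hu' hgu fun c' hc' hT => ?_
  apply hg.nonquad hz 1 1
  intro x
  have h3 := hT.sq hL hu'
  have h4 : L (g * z) (L (g * z) x) = x := by
    rw [← LinearEquiv.mul_apply, ← map_mul, h3, map_one]; rfl
  rw [one_smul, map_sub, h4, one_smul]
  have e2 : ∀ v : Fin 3 → K, v + v = 0 := fun v => by
    have : v + v = (2 : K) • v := by module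
    rw [this, h.two, zero_smul]
  linear_combination (norm := module) e2 x - e2 (L (g * z) x)

end Cfsg.Agent.H881.U34
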