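import Cfsg.Agent.H881.Wrap

/-!
The field with 16 elements.
-/

set_option autoImplicit false
set_option linter.unusedSectionVars false

namespace Cfsg.Agent.H881.U34

open Module Cfsg.Agent.ClassicalGeometry Cfsg.Agent.H880

variable {K : Type*} [Field K] [Fintype K] {σ : K →+* K}

/-- `K` has 16 elements and `σ x = x ^ 4`. -/
structure Fld (σ : K →+* K) : Prop where
  card : Fintype.card K = 16
  conj : ∀ x, σ x = x ^ 4

theorem Fld.two (h : Fld σ) : (2 : K) = 0 := by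
  have h1 := FiniteField.cast_card_eq_zero K
  rw [h.card] at h1
  have h2 : (2 : K) ^ 4 = 0 := by
    rw [← h1]; norm_num
  exact pow_eq_zero_iff (by norm_num) |>.mp h2

theorem Fld.pow16 (h : Fld σ) (x : K) : x ^ 16 = x := by
  have := FiniteField.pow_card x
  rwa [h.card] at this

theorem Fld.pow15 (h : Fld σ) {x : K} (hx : x ≠ 0) : x ^ 15 = 1 := by
  have := FiniteField.pow_card_sub_one_eq_one x hx
  rwa [h.card] at this

theorem Fld.conj2 (h : Fld σ) (x : K) : σ (σ x) = x := by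
  rw [h.conj, h.conj, ← pow_mul, h.pow16]

theorem Fld.ne_id (h : Fld σ) : σ ≠ RingHom.id K := by
  intro h1
  have h2 : ∀ x : K, x ^ 4 = x := fun x => by rw [← h.conj, h1]; rfl
  have h3 := FiniteField.X_pow_card_sub_X_natDegree_eq K (p := 4) (by norm_num)
  have h4 : (Polynomial.X ^ 4 - Polynomial.X : Polynomial K) ≠ 0 := by
    intro h0
    rw [h0, Polynomial.natDegree_zero] at h3
    omega
  classical
  have h5 : (Finset.univ : Finset K).val ≤ (Polynomial.X ^ 4 - Polynomial.X : Polynomial K).roots := by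
    rw [Finset.val_le_iff_val_subset]
    intro x _
    rw [Polynomial.mem_roots h4]
    simp [h2 x]
  have h6 := Multiset.card_le_card h5
  have h7 : (Finset.univ : Finset K).val.card = 16 := h.card
  have h8 := (Polynomial.card_roots' (Polynomial.X ^ 4 - Polynomial.X : Polynomial K))
  omega

theorem Fld.neg (h : Fld σ) (x : K) : -x = x := by linear_combination (-x) * h.two

/-- The elements of `K`. -/
theorem Fld.cases (h : Fld σ) (a : K) : a = 0 ∨ a = 1 ∨ a ^ 2 + a + 1 = 0 ∨ a ^ 4 + a ^ 3 + a ^ 2 + a + 1 = 0 ∨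
    a ^ 4 + a + 1 = 0 ∨ a ^ 4 + a ^ 3 + 1 = 0 := by
  have h1 : a * (a - 1) * (a ^ 2 + a + 1) * (a ^ 4 + a ^ 3 + a ^ 2 + a + 1) * (a ^ 4 + a + 1) * (a ^ 4 + a ^ 3 + 1) = 0 := by
    linear_combination h.pow16 a - ((-1) * a ^ 15 + (-1) * a ^ 14 + (-1) * a ^ 13 + (-2) * a ^ 12 + (-2) * a ^ 11 +
      (-1) * a ^ 10 + a ^ 7 + 2 * a ^ 6 + 2 * a ^ 5 + a ^ 4 + a ^ 3 + a ^ 2) * h.two
  simp only [mul_eq_zero, or_assoc] at h1
  rcases h1 with h1 | h1 | h1 | h1 | h1 | h1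
  · exact Or.inl h1
  · exact Or.inr (Or.inl (sub_eq_zero.mp h1))
  · exact Or.inr (Or.inr (Or.inl h1))
  · exact Or.inr (Or.inr (Or.inr (Or.inl h1)))
  · exact Or.inr (Or.inr (Or.inr (Or.inr (Or.inl h1))))
  · exact Or.inr (Or.inr (Or.inr (Or.inr (Or.inr h1))))

/-- `r` is a fifth root of unity, `r ≠ 1`. -/
def Phi (r : K) : Prop := r ^ 4 + r ^ 3 + r ^ 2 + r + 1 = 0

theorem Phi.pow5 {r : K} (hr : Phi r) : r ^ 5 = 1 := by
  unfold Phi at hr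
  linear_combination (r + (-1)) * hr

theorem Phi.ne_zero {r : K} (hr : Phi r) : r ≠ 0 := by
  rintro rfl
  have := hr.pow5
  norm_num at this

theorem Phi.ne_one (h : Fld σ) {r : K} (hr : Phi r) : r ≠ 1 := by
  rintro rfl
  unfold Phi at hr
  have : (1 : K) = 0 := by linear_combination hr - 2 * h.two
  exact one_ne_zero this

theorem Phi.of_pow5 {r : K} (h5 : r ^ 5 = 1) (h1 : r ≠ 1) : Phi r := by
  have : (r - 1) * (r ^ 4 + r ^ 3 + r ^ 2 + r + 1) = 0 := by linear_combination h5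
  exact (mul_eq_zero.mp this).resolve_left (sub_ne_zero.mpr h1)

theorem Phi.pow {r : K} (hr : Phi r) {n : ℕ} (hn : n = 2 ∨ n = 3 ∨ n = 4) : Phi (r ^ n) := by
  unfold Phi at hr ⊢
  rcases hn with rfl | rfl | rfl
  · linear_combination (r ^ 4 - r ^ 3 + r ^ 2 - r + 1) * hr
  · linear_combination (r ^ 8 - r ^ 7 + r ^ 5 - r ^ 4 + r ^ 3 - r + 1) * hr
  · linear_combination (r ^ 12 - r ^ 11 + r ^ 8 - r ^ 6 + r ^ 4 - r + 1) * hr

theorem Fld.exists_phi (h : Fld σ) : ∃ r : K, Phi r := by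
  classical
  have : Fact (Nat.Prime 5) := ⟨by norm_num⟩
  obtain ⟨x, hx⟩ := exists_prime_orderOf_dvd_card (G := Kˣ) 5 (by
    rw [Fintype.card_units, h.card]
    norm_num)
  refine ⟨(x : K), Phi.of_pow5 ?_ ?_⟩
  · have := pow_orderOf_eq_one x
    rw [hx] at this
    rw [← Units.val_pow_eq_pow_val, this, Units.val_one]
  · intro h1
    have h2 : x = 1 := Units.ext h1
    rw [h2, orderOf_one] at hx
    norm_num at hx

/-- A cube root of unity. -/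
theorem Phi.w {r : K} (h : Fld σ) (hr : Phi r) : (r ^ 2 + r ^ 3) ^ 2 + (r ^ 2 + r ^ 3) + 1 = 0 := by
  unfold Phi at hr
  linear_combination (r ^ 2 + r + (-1)) * hr + h.two

/-- Fifth roots of unity. -/
theorem Phi.mem {r : K} (hr : Phi r) {x : K} (hx : x ^ 5 = 1) : x = 1 ∨ x = r ∨ x = r ^ 2 ∨ x = r ^ 3 ∨ x = r ^ 4 := by
  have h5 := hr.pow5
  unfold Phi at hr
  have : (x - 1) * (x - r) * (x - r ^ 2) * (x - r ^ 3) * (x - r ^ 4) = 0 := by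
    linear_combination hx + (r ^ 6 * x + (-1) * r ^ 6 + (-1) * r ^ 5 * x ^ 2 + r ^ 5 + r ^ 3 * x ^ 3 + (-1) * r ^ 3 * x ^ 2 +
      r * x ^ 3 + (-1) * r + (-1) * x ^ 4 + 1) * hr
  simp only [mul_eq_zero, sub_eq_zero, or_assoc] at this
  exact this

theorem Fld.norm_fix (h : Fld σ) (x : K) : (x ^ 5) ^ 4 = x ^ 5 := by
  rcases eq_or_ne x 0 with rfl | hx
  · norm_num
  · have := h.pow15 hx
    linear_combination (x ^ 5) * this

theorem Fld.norm_surj (h : Fld σ) {c : K} (hc : c ^ 4 = c) (hc0 : c ≠ 0) : ∃ x, x ≠ 0 ∧ x ^ 5 = c := by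
  obtain ⟨x, hx0, hx⟩ := HermWitt.norm_surj σ h.ne_id h.conj2 c (by rw [h.conj, hc]) hc0
  rw [h.conj] at hx
  exact ⟨x, hx0, by rw [← hx]; ring⟩

theorem Fld.trace_surj (h : Fld σ) {c : K} (hc : c ^ 4 = c) : ∃ x, x + σ x = c := by
  obtain ⟨x, hx⟩ := HermWitt.trace_surj σ h.ne_id h.conj2 c (by rw [h.conj, hc])
  exact ⟨x, hx⟩

/-- Fixed elements. -/
theorem fix_cases {w : K} (hw : w ^ 2 + w + 1 = 0) {c : K} (hc : c ^ 4 = c) : c = 0 ∨ c = 1 ∨ c = w ∨ c = w ^ 2 := by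
  have : c * (c - 1) * (c - w) * (c - w ^ 2) = 0 := by
    linear_combination hc + (w * c ^ 2 + (-1) * w * c + (-1) * c ^ 3 + c) * hw
  simp only [mul_eq_zero, sub_eq_zero, or_assoc] at this
  exact this

/-- Type 15. -/
theorem root15 (h : Fld σ) {a : K} (ha : a ^ 4 + a + 1 = 0) :
    (1 + a ^ 2) ^ 3 - a * (1 + a ^ 2) ^ 2 + a ^ 4 * (1 + a ^ 2) - 1 = 0 := by
  linear_combination (2 * a ^ 2 + (-1) * a + 4) * ha + ((-2) * a ^ 3 + a ^ 2 + (-2) * a + (-2)) * h.two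

theorem root15_ne (h : Fld σ) {a : K} (ha : a ^ 4 + a + 1 = 0) : (1 + a ^ 2) ^ 5 ≠ 1 := by
  intro h1
  have h2 : a * (a + 1) = 0 := by
    linear_combination h1 - ((a ^ 6 + 5 * a ^ 4 + (-1) * a ^ 3 + 9 * a ^ 2 + (-5) * a + 6) * ha +
      ((-4) * a ^ 3 + (-1) * a + (-3)) * h.two)
  rcases mul_eq_zero.mp h2 with h3 | h3
  · rw [h3] at ha
    norm_num at ha
  · have h4 : a = 1 := by linear_combination h3 - h.two
    rw [h4] at ha
    have : (1 : K) = 0 := by linear_combination ha - h.two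
    exact one_ne_zero this

/-- Type 13: no eigenvalues. -/
theorem no_root (h : Fld σ) {r : K} (hr : Phi r) (t : K) :
    t ^ 3 - (1 + r) * t ^ 2 + (1 + r) ^ 4 * t - 1 ≠ 0 := by
  intro ht
  have hr' : r ^ 4 + r ^ 3 + r ^ 2 + r + 1 = 0 := hr
  have h2 := h.two
  have h13 : t ^ 13 - 1 = 0 := by
    linear_combination (r ^ 3 * t ^ 8 + r ^ 3 * t ^ 7 + r ^ 3 * t ^ 6 + r ^ 3 * t ^ 5 + r ^ 3 * t ^ 2 + r ^ 3 * t + r ^ 2 * t ^ 7 + r ^ 2 * t ^ 6 + r ^ 2 * t ^ 5 + r ^ 2 * t + r * t ^ 9 + r * t ^ 8 + r * t ^ 7 + r * t ^ 6 + r * t ^ 4 + r * t ^ 3 + r * t ^ 2 + r * t + t ^ 10 + t ^ 9 + t ^ 8 + t ^ 6 + t ^ 3 + 1) * ht + ((-1) * r ^ 3 * t ^ 9 + (-1) * r ^ 3 * t ^ 8 + (-1) * r ^ 3 * t ^ 7 + (-1) * r ^ 3 * t ^ 6 + (-1) * r ^ 3 * t ^ 3 + (-1) * r ^ 3 * t ^ 2 + (-3) * r ^ 2 * t ^ 9 + (-4) * r ^ 2 * t ^ 8 + (-4) * r ^ 2 * t ^ 7 + (-4) * r ^ 2 * t ^ 6 + (-3) * r ^ 2 * t ^ 3 +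 (-4) * r ^ 2 * t ^ 2 + (-1) * r * t ^ 10 + (-3) * r * t ^ 9 + (-6) * r * t ^ 8 + (-6) * r * t ^ 7 + (-5) * r * t ^ 6 + (-1) * r * t ^ 5 + (-1) * r * t ^ 4 + (-3) * r * t ^ 3 + (-6) * r * t ^ 2 + (-1) * t ^ 11 + (-3) * t ^ 10 + (-1) * t ^ 9 + (-2) * t ^ 8 + (-3) * t ^ 7 + (-3) * t ^ 5 + (-3) * t ^ 4 + (-3) * t ^ 2 + (-1) * t) * hr' + ((-2) * r ^ 3 * t ^ 11 + (-3) * r ^ 3 * t ^ 10 + (-1) * r ^ 3 * t ^ 9 + 2 * r ^ 3 * t ^ 8 + r ^ 3 * t ^ 7 + 3 * r ^ 3 * t ^ 6 + (-1) * r ^ 3 * t ^ 5 + (-3) * r ^ 3 * t ^ 4 + r ^ 3 * t ^ 3 + 2 * r ^ 3 * t ^ 2 + (-1) * r ^ 3 * t + (-2) * r ^ 2 * t ^ 11 + (-3) * r ^ 2 * t ^ 10 + (-1) * r ^ 2 * t ^ 9 + 4 * r ^ 2 * t ^ 8 + 2 * r ^ 2 * t ^ 7 + 5 * r ^ 2 * t ^ 6 + r ^ 2 * t ^ 5 + (-3) * r ^ 2 * t ^ 4 + 2 * r ^ 2 * t ^ 3 + 4 * r ^ 2 * t ^ 2 + (-2) * r ^ 2 * t + (-1) * r * t ^ 11 + 5 * r * t ^ 8 + 2 * r * t ^ 7 + 3 * r * t ^ 6 + 2 * r *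 t ^ 5 + 2 * r * t ^ 3 + 5 * r * t ^ 2 + (-1) * r * t + 2 * t ^ 10 + 2 * t ^ 8 + t ^ 7 + 2 * t ^ 5 + t ^ 4 + 2 * t ^ 2) * h2
  have ht0 : t ≠ 0 := by
    rintro rfl
    norm_num at h13
  have h15 := h.pow15 ht0
  have h3 : (t - 1) ^ 2 = 0 := by
    have e1 : t ^ 13 = 1 := sub_eq_zero.mp h13
    have e2 : t ^ 2 = 1 := by
      calc t ^ 2 = t ^ 13 * t ^ 2 := by rw [e1, one_mul]
        _ = t ^ 15 := by ring
        _ = 1 := h15
    linear_combination e2 + (1 - t) * h2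
  have h4 : t = 1 := sub_eq_zero.mp (pow_eq_zero_iff (by norm_num) |>.mp h3)
  rw [h4] at ht
  have h5 : r * (1 + r ^ 3) = 0 := by
    linear_combination ht - (2 * r ^ 3 + 3 * r ^ 2 + r) * h2
  rcases mul_eq_zero.mp h5 with h6 | h6
  · exact hr.ne_zero h6
  · have e3 : r ^ 3 = 1 := by linear_combination h6 - h2
    have e5 := hr.pow5
    have e2 : r ^ 2 = 1 := by
      calc r ^ 2 = r ^ 3 * r ^ 2 := by rw [e3, one_mul]
        _ = r ^ 5 := by ring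
        _ = 1 := e5
    exact hr.ne_one h (by
      calc r = r ^ 3 := by rw [pow_succ, e2, one_mul]
        _ = 1 := e3)

end Cfsg.Agent.H881.U34
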