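import Cfsg.Agent.H881.U34.Fld

/-!
`SU₃(4)` acting on its natural module; frames, transvections, Siegel elements.
-/

set_option autoImplicit false
set_option linter.unusedSectionVars false

namespace Cfsg.Agent.H881.U34

open Module Cfsg.Agent.ClassicalGeometry Cfsg.Agent.H880

variable {K : Type*} [Field K] [Fintype K] {σ : K →+* K} {G : Type*} [Group G]
  {L : G →* ((Fin 3 → K) ≃ₗ[K] (Fin 3 → K))}

/-- `G` is `SU₃(4)` on its natural module. -/
structure SU3 (σ : K →+* K) (L : G →* ((Fin 3 → K) ≃ₗ[K] (Fin 3 → K))) : Prop where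
  fld : Fld σ
  iso : ∀ g x y, stB σ 3 (L g x) (L g y) = stB σ 3 x y
  det : ∀ g, LinearMap.det (L g : (Fin 3 → K) →ₗ[K] (Fin 3 → K)) = 1
  inj : Function.Injective L
  surj : ∀ z : (Fin 3 → K) ≃ₗ[K] (Fin 3 → K), (∀ x y, stB σ 3 (z x) (z y) = stB σ 3 x y) →
    LinearMap.det (z : (Fin 3 → K) →ₗ[K] (Fin 3 → K)) = 1 → ∃ g, L g = z

theorem SU3.symm (hL : SU3 σ L) : (stB σ 3).IsSymm := stB_symm hL.fld.conj2 3

theorem SU3.adj (hL : SU3 σ L) (g : G) (x y : Fin 3 → K) : stB σ 3 (L g x) y = stB σ 3 x (L g⁻¹ y) := by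
  rw [← hL.iso g x (L g⁻¹ y), ← LinearEquiv.mul_apply, ← map_mul, mul_inv_cancel, map_one]
  rfl

theorem SU3.ext (hL : SU3 σ L) {g h : G} (H : ∀ x, L g x = L h x) : g = h := hL.inj (LinearEquiv.ext H)

theorem SU3.move (hL : SU3 σ L) {v v' : Fin 3 → K} (hv : v ≠ 0) (hv' : v' ≠ 0)
    (h : stB σ 3 v v = stB σ 3 v' v') : ∃ g, L g v = v' := by
  obtain ⟨z, hz, hzd, hzv⟩ := exists_su hL.fld.ne_id hL.fld.conj2 le_rfl hv hv' h
  obtain ⟨g, hg⟩ := hL.surj z hz hzd
  exact ⟨g, by rw [hg, hzv]⟩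

/-- `z` is the transvection `x ↦ x + c ⟨u, x⟩ u`. -/
def IsT (σ : K →+* K) (L : G →* ((Fin 3 → K) ≃ₗ[K] (Fin 3 → K))) (u : Fin 3 → K) (c : K) (z : G) : Prop :=
  ∀ v, L z v = v + (c * stB σ 3 u v) • u

theorem SU3.exists_T (hL : SU3 σ L) {u : Fin 3 → K} (hu : stB σ 3 u u = 0) {c : K} (hc : c ^ 4 = c) :
    ∃ z, IsT σ L u c z := by
  obtain ⟨t, ht, _, h1, h2⟩ := exists_tv hL.symm hu (l := c) (by
    rw [hL.fld.conj, hc]
    linear_combination c * hL.fld.two)
  obtain ⟨g, hg⟩ := hL.surj t h1 h2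
  exact ⟨g, fun v => by rw [hg, ht]⟩

theorem IsT.mul (hL : SU3 σ L) {u : Fin 3 → K} (hu : stB σ 3 u u = 0) {c d : K} {z z' : G} (h : IsT σ L u c z)
    (h' : IsT σ L u d z') : IsT σ L u (c + d) (z * z') := by
  intro v
  rw [map_mul, LinearEquiv.mul_apply, h' v, map_add, map_smul, h v, h u, hu, mul_zero, zero_smul, add_zero]
  module

theorem IsT.eq (hL : SU3 σ L) {u : Fin 3 → K} {c : K} {z z' : G} (h : IsT σ L u c z) (h' : IsT σ L u c z') : z = z' :=
  hL.ext fun v => by rw [h v, h' v]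

theorem IsT.zero (hL : SU3 σ L) {u : Fin 3 → K} {z : G} (h : IsT σ L u 0 z) : z = 1 :=
  hL.ext fun v => by rw [h v, zero_mul, zero_smul, add_zero, map_one]; rfl

theorem IsT.one {u : Fin 3 → K} : IsT σ L u 0 1 := fun v => by rw [zero_mul, zero_smul, add_zero, map_one]; rfl

theorem IsT.sq (hL : SU3 σ L) {u : Fin 3 → K} (hu : stB σ 3 u u = 0) {c : K} {z : G} (h : IsT σ L u c z) : z * z = 1 := by
  have h1 := h.mul hL hu h
  have h2 : c + c = 0 := by linear_combination c * hL.fld.two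
  rw [h2] at h1
  exact h1.zero hL

theorem IsT.conj (hL : SU3 σ L) {u : Fin 3 → K} {c : K} {z : G} (h : IsT σ L u c z) (g : G) :
    IsT σ L (L g u) c (g * z * g⁻¹) := by
  intro v
  rw [map_mul, map_mul, LinearEquiv.mul_apply, LinearEquiv.mul_apply, h, map_add, map_smul, hL.adj g u v,
    ← LinearEquiv.mul_apply, ← map_mul, mul_inv_cancel, map_one]
  rfl

theorem IsT.smul (hL : SU3 σ L) {u : Fin 3 → K} {c : K} {z : G} {t : K} (h : IsT σ L (t • u) c z) :
    IsT σ L u (t ^ 5 * c) z := by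
  intro v
  rw [h v, LinearMap.map_smulₛₗ₂, hL.fld.conj, smul_eq_mul, smul_smul]
  congr 2
  ring

/-- the trace on the natural module -/
noncomputable def ta (L : G →* ((Fin 3 → K) ≃ₗ[K] (Fin 3 → K))) (g : G) : K :=
  LinearMap.trace K (Fin 3 → K) (L g : (Fin 3 → K) →ₗ[K] (Fin 3 → K))

theorem ta_mul_T (g : G) {u : Fin 3 → K} {c : K} {z : G} (h : IsT σ L u c z) :
    ta L (g * z) = ta L g + c * stB σ 3 u (L g u) := by
  have h1 : ((L (g * z) : (Fin 3 → K) ≃ₗ[K] (Fin 3 → K)) : (Fin 3 → K) →ₗ[K] (Fin 3 → K)) =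
      (L g : (Fin 3 → K) →ₗ[K] (Fin 3 → K)) + c • (stB σ 3 u).smulRight (L g u) := by
    refine LinearMap.ext fun v => ?_
    show L (g * z) v = L g v + c • (stB σ 3 u v • L g u)
    rw [map_mul, LinearEquiv.mul_apply, h v, map_add, map_smul, smul_smul]
  unfold ta
  rw [h1, map_add, map_smul, LinearMap.trace_smulRight, smul_eq_mul]

/-! ### frames -/

/-- A frame: hyperbolic pair `u, w` and a unit vector `v` orthogonal to it. -/
structure Frame (σ : K →+* K) (u v w : Fin 3 → K) : Prop where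
  uu : stB σ 3 u u = 0
  uv : stB σ 3 u v = 0
  uw : stB σ 3 u w = 1
  vv : stB σ 3 v v = 1
  vw : stB σ 3 v w = 0
  ww : stB σ 3 w w = 0

theorem Frame.vu (h : Fld σ) {u v w : Fin 3 → K} (hf : Frame σ u v w) : stB σ 3 v u = 0 :=
  symm_zero (stB_symm h.conj2 3) hf.uv

theorem Frame.wu (h : Fld σ) {u v w : Fin 3 → K} (hf : Frame σ u v w) : stB σ 3 w u = 1 := by
  rw [← (stB_symm h.conj2 3).eq, hf.uw]
  exact map_one σ

theorem Frame.wv (h : Fld σ) {u v w : Fin 3 → K} (hf : Frame σ u v w) : stB σ 3 w v = 0 :=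
  symm_zero (stB_symm h.conj2 3) hf.vw

theorem Frame.linInd (h : Fld σ) {u v w : Fin 3 → K} (hf : Frame σ u v w) : LinearIndependent K ![u, v, w] := by
  rw [Fintype.linearIndependent_iff]
  intro g hg
  rw [Fin.sum_univ_three] at hg
  simp only [Matrix.cons_val_zero, Matrix.cons_val_one, Matrix.cons_val] at hg
  have h0 := congrArg (stB σ 3 w) hg
  have h1 := congrArg (stB σ 3 v) hg
  have h2 := congrArg (stB σ 3 u) hg
  simp only [map_add, map_smul, smul_eq_mul, hf.wu h, hf.wv h, hf.ww, hf.vu h, hf.vv, hf.vw, hf.uu, hf.uv, hf.uw,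
    mul_zero, mul_one, add_zero, zero_add, map_zero] at h0 h1 h2
  intro i
  fin_cases i
  · exact h0
  · exact h1
  · exact h2

/-- The basis of a frame. -/
noncomputable def Frame.basis (h : Fld σ) {u v w : Fin 3 → K} (hf : Frame σ u v w) : Basis (Fin 3) K (Fin 3 → K) :=
  basisOfLinearIndependentOfCardEqFinrank (hf.linInd h) (by simp)

theorem Frame.basis_apply (h : Fld σ) {u v w : Fin 3 → K} (hf : Frame σ u v w) (i : Fin 3) :
    hf.basis h i = ![u, v, w] i := by
  unfold Frame.basis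
  rw [coe_basisOfLinearIndependentOfCardEqFinrank]

theorem Frame.ext (h : Fld σ) {u v w : Fin 3 → K} (hf : Frame σ u v w) {f g : (Fin 3 → K) →ₗ[K] (Fin 3 → K)}
    (hu : f u = g u) (hv : f v = g v) (hw : f w = g w) : f = g := by
  apply (hf.basis h).ext
  intro i
  rw [hf.basis_apply h]
  fin_cases i
  · exact hu
  · exact hv
  · exact hw

theorem Frame.expand (h : Fld σ) {u v w : Fin 3 → K} (hf : Frame σ u v w) (x : Fin 3 → K) :
    x = stB σ 3 w x • u + stB σ 3 v x • v + stB σ 3 u x • w := by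
  have h1 : (LinearMap.id : (Fin 3 → K) →ₗ[K] (Fin 3 → K)) =
      (stB σ 3 w).smulRight u + (stB σ 3 v).smulRight v + (stB σ 3 u).smulRight w := by
    apply hf.ext h
    · show u = stB σ 3 w u • u + stB σ 3 v u • v + stB σ 3 u u • w
      rw [hf.wu h, hf.vu h, hf.uu]; simp
    · show v = stB σ 3 w v • u + stB σ 3 v v • v + stB σ 3 u v • w
      rw [hf.wv h, hf.vv, hf.uv]; simp
    · show w = stB σ 3 w w • u + stB σ 3 v w • v + stB σ 3 u w • w
      rw [hf.ww, hf.vw, hf.uw]; simp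
  exact LinearMap.congr_fun h1 x

theorem exists_w (h : Fld σ) {u v : Fin 3 → K} (hu0 : u ≠ 0) (hu : stB σ 3 u u = 0) (huv : stB σ 3 u v = 0)
    (hv : stB σ 3 v v = 1) : ∃ w, Frame σ u v w := by
  have hS := stB_symm h.conj2 3
  obtain ⟨z, hz⟩ : ∃ z, stB σ 3 u z ≠ 0 := by
    by_contra hcon
    push Not at hcon
    exact hu0 (stB_sepLeft 3 u hcon)
  have hvu := symm_zero hS huv
  have hz1 : stB σ 3 u (z - stB σ 3 v z • v) ≠ 0 := by
    rw [map_sub, map_smul, huv, smul_zero, sub_zero]; exact hz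
  obtain ⟨c, d, h1, h2⟩ := exists_partner h.ne_id h.conj2 hS hu hz1
  refine ⟨_, hu, huv, h1, hv, ?_, h2⟩
  rw [map_add, map_smul, map_smul, map_sub, map_smul, hv, hvu]
  simp

theorem exists_frame (h : Fld σ) {u : Fin 3 → K} (hu0 : u ≠ 0) (hu : stB σ 3 u u = 0) : ∃ v w, Frame σ u v w := by
  obtain ⟨v, huv, hv⟩ := exists_unit_perp_of_ne h.ne_id h.conj2 (stB_symm h.conj2 3) (stB_sepLeft (σ := σ) 3)
    (by simp) u
  obtain ⟨w, hw⟩ := exists_w h hu0 hu huv hv
  exact ⟨v, w, hw⟩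

theorem exists_iso_vec (h : Fld σ) : ∃ u : Fin 3 → K, u ≠ 0 ∧ stB σ 3 u u = 0 := by
  obtain ⟨x, hx, hxx⟩ := exists_vec h.ne_id h.conj2 (stB_symm h.conj2 3) (stB_sepLeft (σ := σ) 3) (by simp)
    (v := Pi.single 0 1) (by
      intro h1
      have := congrFun h1 0
      simp at this) 1 0 (map_zero σ)
  refine ⟨x, ?_, hxx⟩
  rintro rfl
  rw [map_zero] at hx
  exact zero_ne_one hx

/-- Elements of `G` defined on a frame. -/
theorem SU3.of_frames (hL : SU3 σ L) {u v w u' v' w' : Fin 3 → K} (hf : Frame σ u v w) (hf' : Frame σ u' v' w') :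
    ∃ (g : G) (s : K), s ^ 5 = 1 ∧ L g u = u' ∧ L g w = w' ∧ L g v = s • v' := by
  have h := hL.fld
  let b := hf.basis h
  -- the isometry
  have key : ∀ (s : K), s ^ 5 = 1 → ∃ z : (Fin 3 → K) ≃ₗ[K] (Fin 3 → K), (∀ x y, stB σ 3 (z x) (z y) = stB σ 3 x y) ∧
      z u = u' ∧ z v = s • v' ∧ z w = w' := by
    intro s hs
    have hss : σ s * s = 1 := by rw [h.conj, ← hs]; ring
    have hf2 : Frame σ u' (s • v') w' :=
      { uu := hf'.uu
        uv := by rw [map_smul, hf'.uv, smul_zero]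
        uw := hf'.uw
        vv := by rw [LinearMap.map_smulₛₗ₂, map_smul, hf'.vv, smul_eq_mul, smul_eq_mul, mul_one, hss]
        vw := by rw [LinearMap.map_smulₛₗ₂, hf'.vw, smul_zero]
        ww := hf'.ww }
    let b' := hf2.basis h
    have hb : ∀ i, b i = ![u, v, w] i := hf.basis_apply h
    have hb' : ∀ i, b' i = ![u', s • v', w'] i := hf2.basis_apply h
    let z := b.equiv b' (Equiv.refl _)
    have hzu : z u = u' := by
      have := b.equiv_apply 0 b' (Equiv.refl _)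
      rw [hb, Equiv.refl_apply, hb'] at this
      exact this
    have hzv : z v = s • v' := by
      have := b.equiv_apply 1 b' (Equiv.refl _)
      rw [hb, Equiv.refl_apply, hb'] at this
      exact this
    have hzw : z w = w' := by
      have := b.equiv_apply 2 b' (Equiv.refl _)
      rw [hb, Equiv.refl_apply, hb'] at this
      exact this
    refine ⟨z, fun x y => ?_, hzu, hzv, hzw⟩
    have hx := hf.expand h x
    have hy := hf.expand h y
    generalize stB σ 3 w x = x1 at hx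
    generalize stB σ 3 v x = x2 at hx
    generalize stB σ 3 u x = x3 at hx
    generalize stB σ 3 w y = y1 at hy
    generalize stB σ 3 v y = y2 at hy
    generalize stB σ 3 u y = y3 at hy
    rw [hx, hy]
    simp only [map_add, map_smul, hzu, hzv, hzw, LinearMap.add_apply, LinearMap.map_smulₛₗ₂, smul_eq_mul,
      hf.uu, hf.uv, hf.uw, hf.vv, hf.vw, hf.ww, hf.vu h, hf.wu h, hf.wv h,
      hf'.uu, hf'.uv, hf'.uw, hf'.vv, hf'.vw, hf'.ww, hf'.vu h, hf'.wu h, hf'.wv h]
    linear_combination (σ x2 * y2) * hss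
  have hdet : ∀ z : (Fin 3 → K) ≃ₗ[K] (Fin 3 → K), (∀ x y, stB σ 3 (z x) (z y) = stB σ 3 x y) →
      (LinearMap.det (z : (Fin 3 → K) →ₗ[K] (Fin 3 → K))) ^ 5 = 1 := by
    intro z hz
    have h1 : ((LinearMap.toMatrix' (z : (Fin 3 → K) →ₗ[K] (Fin 3 → K))).map σ).transpose *
        LinearMap.toMatrix' (z : (Fin 3 → K) →ₗ[K] (Fin 3 → K)) = 1 := iso_unit (fun x y => by
      rw [LinearMap.toMatrix'_mulVec, LinearMap.toMatrix'_mulVec]
      exact hz x y)
    have h2 := congrArg Matrix.det h1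
    rw [Matrix.det_mul, Matrix.det_transpose, Matrix.det_one, LinearMap.det_toMatrix'] at h2
    have h3 : ((LinearMap.toMatrix' (z : (Fin 3 → K) →ₗ[K] (Fin 3 → K))).map σ).det =
        σ (LinearMap.det (z : (Fin 3 → K) →ₗ[K] (Fin 3 → K))) := by
      rw [← LinearMap.det_toMatrix']
      exact (RingHom.map_det σ _).symm
    rw [h3, h.conj] at h2
    rw [← h2]; ring
  obtain ⟨z, hz, hzu, hzv, hzw⟩ := key 1 (one_pow 5)
  set d := LinearMap.det (z : (Fin 3 → K) →ₗ[K] (Fin 3 → K)) with hd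
  have hd5 : d ^ 5 = 1 := hdet z hz
  have hd0 : d ≠ 0 := by
    intro h0
    rw [h0] at hd5
    norm_num at hd5
  obtain ⟨z', hz', hzu', hzv', hzw'⟩ := key d⁻¹ (by rw [inv_pow, hd5, inv_one])
  have hdet' : LinearMap.det (z' : (Fin 3 → K) →ₗ[K] (Fin 3 → K)) = 1 := by
    -- `z' = D z`, `D = diag(1, d⁻¹, 1)` on the frame `u', v', w'`
    have hbas := hf.basis_apply h
    have e1 : LinearMap.toMatrix (hf.basis h) (hf'.basis h) (z' : (Fin 3 → K) →ₗ[K] (Fin 3 → K)) =
        Matrix.diagonal ![1, d⁻¹, 1] := by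
      ext i j
      rw [LinearMap.toMatrix_apply, hbas]
      have c1 : (z' : (Fin 3 → K) →ₗ[K] (Fin 3 → K)) (![u, v, w] j) = ![1, d⁻¹, 1] j • (hf'.basis h) j := by
        rw [hf'.basis_apply h]
        fin_cases j
        · simpa using hzu'
        · simpa using hzv'
        · simpa using hzw'
      rw [c1, map_smul, Finsupp.smul_apply, Basis.repr_self, Matrix.diagonal_apply, Finsupp.single_apply]
      by_cases hij : i = j
      · subst hij; simp
      · rw [if_neg hij, if_neg (Ne.symm hij)]; simp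
    have e2 : LinearMap.toMatrix (hf.basis h) (hf'.basis h) (z : (Fin 3 → K) →ₗ[K] (Fin 3 → K)) = 1 := by
      ext i j
      rw [LinearMap.toMatrix_apply, hbas]
      have c1 : (z : (Fin 3 → K) →ₗ[K] (Fin 3 → K)) (![u, v, w] j) = (hf'.basis h) j := by
        rw [hf'.basis_apply h]
        fin_cases j
        · simpa using hzu
        · simpa using hzv
        · simpa using hzw
      rw [c1, Basis.repr_self, Matrix.one_apply, Finsupp.single_apply]
      by_cases hij : i = j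
      · subst hij; simp
      · rw [if_neg hij, if_neg (Ne.symm hij)]
    let D : (Fin 3 → K) →ₗ[K] (Fin 3 → K) := Matrix.toLin (hf'.basis h) (hf'.basis h) (Matrix.diagonal ![1, d⁻¹, 1])
    have e3 : (z' : (Fin 3 → K) →ₗ[K] (Fin 3 → K)) = D ∘ₗ (z : (Fin 3 → K) →ₗ[K] (Fin 3 → K)) := by
      apply (LinearMap.toMatrix (hf.basis h) (hf'.basis h)).injective
      rw [LinearMap.toMatrix_comp (hf.basis h) (hf'.basis h) (hf'.basis h), e1, e2, LinearMap.toMatrix_toLin, mul_one]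
    rw [e3, LinearMap.det_comp, ← hd]
    have e4 : LinearMap.det D = d⁻¹ := by
      rw [← LinearMap.det_toMatrix (hf'.basis h), LinearMap.toMatrix_toLin, Matrix.det_diagonal, Fin.prod_univ_three]
      simp
    rw [e4, inv_mul_cancel₀ hd0]
  obtain ⟨g, hg⟩ := hL.surj z' hz' hdet'
  exact ⟨g, d⁻¹, by rw [inv_pow, hd5, inv_one], by rw [hg, hzu'], by rw [hg, hzw'], by rw [hg, hzv']⟩

end Cfsg.Agent.H881.U34
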