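import Cfsg.Agent.H881.U34.Rep2

/-!
The group `SU 3 K 4`.
-/

set_option autoImplicit false
set_option linter.unusedSectionVars false
set_option linter.unusedVariables false

namespace Cfsg.Agent.H881.U34

open Module Cfsg.Agent.ClassicalGeometry Cfsg.Agent.H880 Matrix

variable {K : Type*} [Field K] [Fintype K]

theorem exists_fld (hK : Fintype.card K = 16) : ∃ σ : K →+* K, Fld σ := by
  obtain ⟨p, hp⟩ := CharP.exists K
  obtain ⟨n, hpp, hn⟩ := FiniteField.card K p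
  rw [hK] at hn
  have h2 : p = 2 := by
    have h3 : p ∣ 2 ^ 4 := by
      have : p ∣ p ^ (n : ℕ) := dvd_pow_self p n.pos.ne'
      rw [← hn] at this
      exact this
    exact (Nat.prime_dvd_prime_iff_eq hpp Nat.prime_two).mp (hpp.dvd_of_dvd_pow h3)
  subst h2
  have := Fact.mk Nat.prime_two
  refine ⟨iterateFrobenius K 2 2, hK, fun x => ?_⟩
  rw [iterateFrobenius_def]
  norm_num

/-- `SU 3 K 4` on the natural module. -/
def Lnat (K : Type*) [Field K] [Fintype K] : ↥(Cfsg.SU 3 K 4) →* ((Fin 3 → K) ≃ₗ[K] (Fin 3 → K)) :=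
  (Matrix.SpecialLinearGroup.toLin').comp (Cfsg.SU 3 K 4).subtype

theorem Lnat_apply (g : ↥(Cfsg.SU 3 K 4)) (v : Fin 3 → K) : Lnat K g v = ((g : Matrix.SpecialLinearGroup (Fin 3) K) : Matrix (Fin 3) (Fin 3) K) *ᵥ v := by
  show Matrix.SpecialLinearGroup.toLin' _ v = _
  rw [Matrix.SpecialLinearGroup.toLin'_apply, Matrix.toLin'_apply]
  rfl

theorem stB_herm {σ : K →+* K} (h : Fld σ) (x y : Fin 3 → K) : stB σ 3 x y = Cfsg.hermForm 3 K 4 y x := by
  rw [stB_apply]
  unfold Cfsg.hermForm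
  refine Finset.sum_congr rfl fun i _ => ?_
  rw [h.conj, mul_comm]

theorem su3 {σ : K →+* K} (h : Fld σ) : SU3 σ (Lnat K) where
  fld := h
  iso g x y := by
    rw [stB_herm h, stB_herm h, Lnat_apply, Lnat_apply]
    exact g.2 y x
  det g := by
    have h1 : (Lnat K g : (Fin 3 → K) →ₗ[K] (Fin 3 → K)) =
        Matrix.toLin' ((g : Matrix.SpecialLinearGroup (Fin 3) K) : Matrix (Fin 3) (Fin 3) K) :=
      Matrix.SpecialLinearGroup.toLin'_to_linearMap _
    rw [h1, LinearMap.det_toLin']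
    exact (g : Matrix.SpecialLinearGroup (Fin 3) K).2
  inj := fun a b hab => Subtype.ext (Matrix.SpecialLinearGroup.toLin'_injective hab)
  surj := by
    intro z hz hzd
    let A : Matrix.SpecialLinearGroup (Fin 3) K := ⟨LinearMap.toMatrix' (z : (Fin 3 → K) →ₗ[K] (Fin 3 → K)), by
      rw [LinearMap.det_toMatrix']; exact hzd⟩
    have hA : ∀ v, (A : Matrix (Fin 3) (Fin 3) K) *ᵥ v = z v := fun v => by
      show LinearMap.toMatrix' (z : (Fin 3 → K) →ₗ[K] (Fin 3 → K)) *ᵥ v = z v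
      rw [LinearMap.toMatrix'_mulVec]
      rfl
    have hmem : A ∈ Cfsg.SU 3 K 4 := by
      intro u v
      show Cfsg.hermForm 3 K 4 ((A : Matrix (Fin 3) (Fin 3) K) *ᵥ u) ((A : Matrix (Fin 3) (Fin 3) K) *ᵥ v) = _
      rw [hA, hA, ← stB_herm h, ← stB_herm h, hz]
    refine ⟨⟨A, hmem⟩, LinearEquiv.ext fun v => ?_⟩
    rw [Lnat_apply]
    exact hA v

end Cfsg.Agent.H881.U34
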