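import Cfsg.Agent.H881.U34.Val

/-!
Linear algebra of involutions.
-/

set_option autoImplicit false
set_option linter.unusedSectionVars false
set_option linter.unusedVariables false

namespace Cfsg.Agent.H881.U34

open Module

variable {F V : Type*} [Field F] [AddCommGroup V] [Module F V] [FiniteDimensional F V]

/-- `A v = v` on `W` -/
def posS (W : Submodule F V) (A : V →ₗ[F] V) : Submodule F V := W ⊓ LinearMap.ker (A - LinearMap.id)

/-- `A v = - v` on `W` -/
def negS (W : Submodule F V) (A : V →ₗ[F] V) : Submodule F V := W ⊓ LinearMap.ker (A + LinearMap.id)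

theorem mem_posS {W : Submodule F V} {A : V →ₗ[F] V} {v : V} : v ∈ posS W A ↔ v ∈ W ∧ A v = v := by
  unfold posS
  rw [Submodule.mem_inf, LinearMap.mem_ker, LinearMap.sub_apply, LinearMap.id_apply, sub_eq_zero]

theorem mem_negS {W : Submodule F V} {A : V →ₗ[F] V} {v : V} : v ∈ negS W A ↔ v ∈ W ∧ A v = -v := by
  unfold negS
  rw [Submodule.mem_inf, LinearMap.mem_ker, LinearMap.add_apply, LinearMap.id_apply, add_eq_zero_iff_eq_neg]

theorem inv_split (h2 : (2 : F) ≠ 0) (W : Submodule F V) {A : V →ₗ[F] V} (hA : ∀ v ∈ W, A (A v) = v)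
    (hW : ∀ v ∈ W, A v ∈ W) : finrank F W = finrank F (posS W A) + finrank F (negS W A) := by
  let f : W →ₗ[F] V := (A + LinearMap.id).domRestrict W
  have hf : ∀ v : W, f v = A v + v := fun v => rfl
  have h1 : LinearMap.range f = posS W A := by
    ext v
    rw [mem_posS]
    constructor
    · rintro ⟨x, rfl⟩
      rw [hf]
      refine ⟨W.add_mem (hW _ x.2) x.2, ?_⟩
      rw [map_add, hA _ x.2, add_comm]
    · rintro ⟨hv, hAv⟩
      refine ⟨⟨(2 : F)⁻¹ • v, W.smul_mem _ hv⟩, ?_⟩
      rw [hf]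
      show A ((2 : F)⁻¹ • v) + (2 : F)⁻¹ • v = v
      rw [map_smul, hAv, ← add_smul, ← two_mul, mul_inv_cancel₀ h2, one_smul]
  have h3 : (LinearMap.ker f).map W.subtype = negS W A := by
    ext v
    rw [mem_negS, Submodule.mem_map]
    constructor
    · rintro ⟨x, hx, rfl⟩
      refine ⟨x.2, ?_⟩
      rw [LinearMap.mem_ker, hf] at hx
      exact eq_neg_of_add_eq_zero_left hx
    · rintro ⟨hv, hAv⟩
      refine ⟨⟨v, hv⟩, ?_, rfl⟩
      rw [LinearMap.mem_ker, hf]
      show A v + v = 0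
      rw [hAv, neg_add_cancel]
  rw [← LinearMap.finrank_range_add_finrank_ker f, h1, ← h3, Submodule.finrank_map_subtype_eq]

theorem finrank_map_inj {W W' : Submodule F V} {Y : V →ₗ[F] V} (hY : ∀ v ∈ W, Y v = 0 → v = 0)
    (h : ∀ v ∈ W, Y v ∈ W') : finrank F W ≤ finrank F W' := by
  let f : W →ₗ[F] W' := (Y.domRestrict W).codRestrict W' fun v => h v v.2
  apply LinearMap.finrank_le_finrank_of_injective (f := f)
  rw [← LinearMap.ker_eq_bot, LinearMap.ker_eq_bot']
  intro v hv
  have h1 : Y v = 0 := congrArg Subtype.val hv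
  exact Subtype.ext (hY v v.2 h1)

/-- The action of an extraspecial group of order 32. -/
theorem extra (h2 : (2 : F) ≠ 0) {W : Submodule F V} (hW : W ≠ ⊥) {X1 Y1 X2 Y2 : V →ₗ[F] V} (s1 : ∀ v ∈ W, X1 v ∈ W)
    (s2 : ∀ v ∈ W, Y1 v ∈ W) (s3 : ∀ v ∈ W, X2 v ∈ W) (s4 : ∀ v ∈ W, Y2 v ∈ W) (q1 : ∀ v ∈ W, X1 (X1 v) = v)
    (c1 : ∀ v ∈ W, X1 (Y1 v) = - Y1 (X1 v)) (i1 : ∀ v ∈ W, Y1 v = 0 → v = 0) (c2 : ∀ v ∈ W, X1 (X2 v) = X2 (X1 v))
    (c3 : ∀ v ∈ W, X1 (Y2 v) = Y2 (X1 v)) (c4 : ∀ v ∈ W, X2 (Y2 v) = - Y2 (X2 v)) (q2 : ∀ v ∈ W, X2 (X2 v) = -v)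
    (q3 : ∀ v ∈ W, Y2 (Y2 v) = - v) :
    finrank F W = 2 * finrank F (posS W X1) ∧ 2 ≤ finrank F (posS W X1) := by
  have e1 := inv_split h2 W q1 s1
  have e2 : finrank F (posS W X1) ≤ finrank F (negS W X1) := by
    refine finrank_map_inj (Y := Y1) (fun v hv => i1 v (mem_posS.mp hv).1) fun v hv => ?_
    obtain ⟨hv, hXv⟩ := mem_posS.mp hv
    exact mem_negS.mpr ⟨s2 v hv, by rw [c1 v hv, hXv]⟩
  have e3 : finrank F (negS W X1) ≤ finrank F (posS W X1) := by
    refine finrank_map_inj (Y := Y1) (fun v hv => i1 v (mem_negS.mp hv).1) fun v hv => ?_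
    obtain ⟨hv, hXv⟩ := mem_negS.mp hv
    exact mem_posS.mpr ⟨s2 v hv, by rw [c1 v hv, hXv, map_neg, neg_neg]⟩
  have e4 : 0 < finrank F W := by
    rw [Nat.pos_iff_ne_zero]
    intro h0
    exact hW (Submodule.finrank_eq_zero.mp h0)
  have e5 : 0 < finrank F (posS W X1) := by omega
  refine ⟨by omega, ?_⟩
  by_contra hcon
  have e6 : finrank F (posS W X1) = 1 := by omega
  obtain ⟨⟨v, hv⟩, hv0, hv1⟩ := finrank_eq_one_iff'.mp e6
  have hv0' : v ≠ 0 := fun h => hv0 (Subtype.ext h)
  obtain ⟨hvW, hXv⟩ := mem_posS.mp hv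
  have m2 : X2 v ∈ posS W X1 := mem_posS.mpr ⟨s3 v hvW, by rw [c2 v hvW, hXv]⟩
  have m3 : Y2 v ∈ posS W X1 := mem_posS.mpr ⟨s4 v hvW, by rw [c3 v hvW, hXv]⟩
  obtain ⟨a, ha⟩ := hv1 ⟨_, m2⟩
  obtain ⟨b, hb⟩ := hv1 ⟨_, m3⟩
  have ha' : X2 v = a • v := (congrArg Subtype.val ha).symm
  have hb' : Y2 v = b • v := (congrArg Subtype.val hb).symm
  have e7 := c4 v hvW
  rw [ha', hb', map_smul, map_smul, ha', hb'] at e7
  have e8 : (2 * a * b) • v = 0 := by linear_combination (norm := module) e7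
  have e9 := (smul_eq_zero.mp e8).resolve_right hv0'
  have e10 : a * a = -1 := by
    have := q2 v hvW
    rw [ha', map_smul, ha'] at this
    have e11 : (a * a + 1) • v = 0 := by linear_combination (norm := module) this
    linear_combination (smul_eq_zero.mp e11).resolve_right hv0'
  have e12 : b * b = -1 := by
    have := q3 v hvW
    rw [hb', map_smul, hb'] at this
    have e11 : (b * b + 1) • v = 0 := by linear_combination (norm := module) this
    linear_combination (smul_eq_zero.mp e11).resolve_right hv0'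
  have e13 : (2 : F) = 0 := by linear_combination (a * b) * e9 - 2 * b * b * e10 + 2 * e12
  exact h2 e13

/-- There is no invariant non-degenerate symmetric form on the two-dimensional module of the quaternion group. -/
theorem quat_form (h2 : (2 : F) ≠ 0) {E : Submodule F V} (hE : finrank F E = 2) {X Y : V →ₗ[F] V}
    (sX : ∀ v ∈ E, X v ∈ E) (sY : ∀ v ∈ E, Y v ∈ E) (hXY : ∀ v ∈ E, X (Y v) = - Y (X v)) (hX : ∀ v ∈ E, X (X v) = -v)
    (hY : ∀ v ∈ E, Y (Y v) = - v) {B : V →ₗ[F] V →ₗ[F] F} (hs : ∀ v w, B v w = B w v)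
    (iX : ∀ v w, B (X v) (X w) = B v w) (iY : ∀ v w, B (Y v) (Y w) = B v w) :
    ∃ v ∈ E, v ≠ 0 ∧ ∀ w ∈ E, B v w = 0 := by
  by_contra hcon
  push Not at hcon
  have key : ∀ v ∈ E, B v v = 0 := by
    intro v hv
    by_cases hv0 : v = 0
    · rw [hv0, map_zero]
    obtain ⟨w, hw, hvw⟩ := hcon v hv hv0
    let f : E →ₗ[F] F := (B v).comp E.subtype
    have hf : f ≠ 0 := by
      intro h0
      exact hvw (LinearMap.congr_fun h0 ⟨w, hw⟩)
    have e1 := LinearMap.finrank_range_add_finrank_ker f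
    rw [hE] at e1
    have e2 : finrank F (LinearMap.range f) ≠ 0 := by
      intro h0
      rw [Submodule.finrank_eq_zero, LinearMap.range_eq_bot] at h0
      exact hf h0
    have p1 : B v (X v) = 0 := by
      have h1 := iX (X v) v
      rw [hX v hv, map_neg, LinearMap.neg_apply, hs (X v) v] at h1
      have h3 : 2 * B v (X v) = 0 := by linear_combination -h1
      exact (mul_eq_zero.mp h3).resolve_left h2
    have p2 : B v (Y v) = 0 := by
      have h1 := iY (Y v) v
      rw [hY v hv, map_neg, LinearMap.neg_apply, hs (Y v) v] at h1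
      have h3 : 2 * B v (Y v) = 0 := by linear_combination -h1
      exact (mul_eq_zero.mp h3).resolve_left h2
    have p3 : B v (X (Y v)) = 0 := by
      have h1 := iX (Y v) (X (Y v))
      rw [hX _ (sY v hv)] at h1
      rw [map_neg, hs (X (Y v)) (Y v)] at h1
      have h4 := iY v (X (Y v))
      have h5 : Y (X (Y v)) = X v := by
        have := hXY (Y v) (sY v hv)
        rw [hY v hv, map_neg] at this
        rw [neg_eq_iff_eq_neg, neg_neg] at this
        exact this.symm
      rw [h5] at h4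
      have h6 := iX (Y v) v
      have h7 : X (Y (X v)) = Y v := by
        have e := hXY v hv
        have : Y (X v) = - X (Y v) := by rw [e, neg_neg]
        rw [this, map_neg, hX _ (sY v hv), neg_neg]
      have h8 := iX v (Y (X v))
      rw [h7] at h8
      have h9 : Y (X v) = - X (Y v) := by rw [hXY v hv, neg_neg]
      rw [h9, map_neg] at h8
      have h10 : B (X v) (Y v) = B v (X (Y v)) := by rw [← h4, hs (Y v) (X v)]
      have h3 : 2 * B v (X (Y v)) = 0 := by linear_combination h8 - h10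
      exact (mul_eq_zero.mp h3).resolve_left h2
    have hX0 : X v ≠ 0 := by
      intro h0
      have := hX v hv
      rw [h0, map_zero] at this
      exact hv0 (neg_eq_zero.mp this.symm)
    let x : LinearMap.ker f := ⟨⟨X v, sX v hv⟩, p1⟩
    have hx0 : x ≠ 0 := by
      intro h0
      exact hX0 (congrArg (fun y : LinearMap.ker f => ((y : E) : V)) h0)
    have e3 : finrank F (LinearMap.ker f) = 1 := by
      have : 0 < finrank F (LinearMap.ker f) := by
        exact Module.finrank_pos_iff_exists_ne_zero.mpr ⟨x, hx0⟩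
      omega
    rw [finrank_eq_one_iff_of_nonzero' x hx0] at e3
    obtain ⟨c, hc⟩ := e3 ⟨⟨X (Y v), sX _ (sY v hv)⟩, p3⟩
    have hc' : c • X v = X (Y v) := congrArg (fun y : LinearMap.ker f => ((y : E) : V)) hc
    have e4 : Y v = c • v := by
      have h1 := congrArg X hc'
      rw [map_smul, hX v hv, hX _ (sY v hv)] at h1
      rw [smul_neg, neg_inj] at h1
      exact h1.symm
    rw [e4, map_smul, smul_eq_mul] at p2
    refine (mul_eq_zero.mp p2).resolve_left fun h0 => ?_
    rw [h0, zero_smul] at e4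
    have := hY v hv
    rw [e4, map_zero] at this
    exact hv0 (neg_eq_zero.mp this.symm)
  have h1 : E ≠ ⊥ := by
    rintro rfl
    rw [finrank_bot] at hE
    omega
  obtain ⟨v, hv, hv0⟩ := Submodule.exists_mem_ne_zero_of_ne_bot h1
  obtain ⟨w, hw, hvw⟩ := hcon v hv hv0
  have h3 := key (v + w) (E.add_mem hv hw)
  rw [map_add, map_add, LinearMap.add_apply, LinearMap.add_apply, key v hv, key w hw, hs w v] at h3
  have h4 : 2 * B v w = 0 := by linear_combination h3
  exact hvw ((mul_eq_zero.mp h4).resolve_left h2)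

end Cfsg.Agent.H881.U34
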