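import Cfsg.Agent.H881.U34.Main

/-!
# Representations of `PSU₃(4)` over fields with `2 ≠ 0` (no irreducibility, no condition on subfields)

`ρ : PSU 3 K 4 →* GL ι F` injective:

* `psu_ge` : `12 ≤ |ι|`;
* `|ι| = 12`: `psu_tr`, `psu_tr_inv`, `psu_tr_pow`, `psu_not_fixQ`;
* `psu_form` : no invariant non-degenerate symmetric bilinear form (radical).
-/

set_option autoImplicit false
set_option linter.unusedSectionVars false
set_option linter.unusedVariables false

namespace Cfsg.Agent.H881.U34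

open Cfsg Cfsg.Geo Module Cfsg.Agent.ClassicalGeometry Cfsg.Agent.H880 Matrix Cfsg.Agent.H915.LD

universe u v w

variable {K : Type v} [Field K] [Fintype K]

section mod

variable {F V : Type*} [Field F] [AddCommGroup V] [Module F V] [FiniteDimensional F V] {ρ : PSU 3 K 4 →* Module.End F V}

theorem comp_inj (hK : Fintype.card K = 16) (hρ : ∀ t, ρ t = 1 → t = 1) (g : ↥(SU 3 K 4))
    (hg : ρ.comp (QuotientGroup.mk' _) g = 1) : g = 1 := by
  have h3 := hρ _ hg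
  have h4 : (QuotientGroup.mk g : PSU 3 K 4) = 1 := h3
  rw [QuotientGroup.eq_one_iff, center_bot hK, Subgroup.mem_bot] at h4
  exact h4

theorem end_ge (hK : Fintype.card K = 16) (h2 : (2 : F) ≠ 0) (hρ : ∀ t, ρ t = 1 → t = 1) : 12 ≤ finrank F V :=
  twelve_le (su3 (sig_fld hK)) h2 (comp_inj hK hρ)

theorem end_trace (hK : Fintype.card K = 16) (h2 : (2 : F) ≠ 0) (hρ : ∀ t, ρ t = 1 → t = 1) (h12 : finrank F V = 12)
    (t : PSU 3 K 4) : LinearMap.trace F V (ρ t) = (chiU hK t : F) := by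
  have h1 := trace_eq (su3 (sig_fld hK)) h2 (comp_inj hK hρ) h12 t.out
  have h3 : (QuotientGroup.mk t.out : PSU 3 K 4) = t := Quotient.out_eq' _
  have h4 : (ρ.comp (QuotientGroup.mk' _)) t.out = ρ t := by
    show ρ (QuotientGroup.mk t.out) = ρ t
    rw [h3]
  rw [h4] at h1
  exact h1

theorem end_trace_inv (hK : Fintype.card K = 16) (h2 : (2 : F) ≠ 0) (hρ : ∀ t, ρ t = 1 → t = 1)
    (h12 : finrank F V = 12) (t : PSU 3 K 4) : LinearMap.trace F V (ρ t⁻¹) = LinearMap.trace F V (ρ t) := by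
  have h1 := trace_inv (su3 (sig_fld hK)) h2 (comp_inj hK hρ) h12 t.out
  have h3 : (QuotientGroup.mk t.out : PSU 3 K 4) = t := Quotient.out_eq' _
  have h4 : (ρ.comp (QuotientGroup.mk' _)) t.out = ρ t := by
    show ρ (QuotientGroup.mk t.out) = ρ t
    rw [h3]
  have h5 : (ρ.comp (QuotientGroup.mk' _)) t.out⁻¹ = ρ t⁻¹ := by
    show ρ (QuotientGroup.mk t.out⁻¹) = ρ t⁻¹
    rw [QuotientGroup.mk_inv, h3]
  rw [h4, h5] at h1
  exact h1

theorem end_form (hK : Fintype.card K = 16) (h2 : (2 : F) ≠ 0) (hρ : ∀ t, ρ t = 1 → t = 1) (h12 : finrank F V = 12)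
    {B : V →ₗ[F] V →ₗ[F] F} (hs : ∀ v w, B v w = B w v) (hB : ∀ t v w, B (ρ t v) (ρ t w) = B v w) :
    ∃ v, v ≠ 0 ∧ ∀ w, B v w = 0 :=
  no_form (su3 (sig_fld hK)) h2 (comp_inj hK hρ) h12 hs fun g v w => hB _ v w

end mod

section gl

variable {ι : Type} [Fintype ι] [DecidableEq ι] {F : Type u} [Field F] (ρ : PSU 3 K 4 →* GL ι F)

/-- as endomorphisms -/
noncomputable def toEnd : PSU 3 K 4 →* Module.End F (ι → F) :=
  ((Matrix.toLinAlgEquiv' : Matrix ι ι F ≃ₐ[F] _) : Matrix ι ι F →* Module.End F (ι → F)).comp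
    ((Units.coeHom (Matrix ι ι F)).comp ρ)

theorem toEnd_apply (t : PSU 3 K 4) (v : ι → F) : toEnd ρ t v = (ρ t : Matrix ι ι F) *ᵥ v := by
  show Matrix.toLinAlgEquiv' _ v = _
  rw [Matrix.toLinAlgEquiv'_apply]
  rfl

theorem toEnd_inj (hρ : Function.Injective ρ) (t : PSU 3 K 4) (ht : toEnd ρ t = 1) : t = 1 := by
  apply hρ
  rw [map_one]
  apply Units.ext
  apply (Matrix.toLinAlgEquiv' : Matrix ι ι F ≃ₐ[F] _).injective
  rw [Units.val_one, map_one]
  exact ht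

theorem toEnd_trace (t : PSU 3 K 4) : LinearMap.trace F (ι → F) (toEnd ρ t) = tr (ρ t) := by
  have h1 : toEnd ρ t = Matrix.toLin' (ρ t : Matrix ι ι F) := by
    refine LinearMap.ext fun v => ?_
    rw [toEnd_apply, Matrix.toLin'_apply]
  rw [h1, Matrix.trace_toLin'_eq]
  rfl

variable {ρ}

theorem psu_ge (hK : Fintype.card K = 16) (h2 : (2 : F) ≠ 0) (hρ : Function.Injective ρ) : 12 ≤ Fintype.card ι := by
  have := end_ge hK h2 (toEnd_inj ρ hρ)
  rwa [Module.finrank_pi] at this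

theorem psu_tr (hK : Fintype.card K = 16) (h2 : (2 : F) ≠ 0) (hρ : Function.Injective ρ) (hn : Fintype.card ι = 12)
    (t : PSU 3 K 4) : tr (ρ t) = (chiU hK t : F) := by
  rw [← toEnd_trace]
  exact end_trace hK h2 (toEnd_inj ρ hρ) (by rw [Module.finrank_pi, hn]) t

theorem psu_tr_inv (hK : Fintype.card K = 16) (h2 : (2 : F) ≠ 0) (hρ : Function.Injective ρ)
    (hn : Fintype.card ι = 12) (t : PSU 3 K 4) : tr (ρ t)⁻¹ = tr (ρ t) := by
  rw [← map_inv, ← toEnd_trace, ← toEnd_trace]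
  exact end_trace_inv hK h2 (toEnd_inj ρ hρ) (by rw [Module.finrank_pi, hn]) t

theorem psu_tr_pow (hK : Fintype.card K = 16) (h2 : (2 : F) ≠ 0) (hρ : Function.Injective ρ)
    (hn : Fintype.card ι = 12) (p : ℕ) [Fact p.Prime] [CharP F p] (t : PSU 3 K 4) : tr (ρ t) ^ p = tr (ρ t) := by
  rw [psu_tr hK h2 hρ hn, ← frobenius_def, map_intCast]

theorem psu_range_sd (hK : Fintype.card K = 16) (h2 : (2 : F) ≠ 0) (hρ : Function.Injective ρ)
    (hn : Fintype.card ι = 12) : SD ρ.range := by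
  rintro _ ⟨t, rfl⟩
  exact psu_tr_inv hK h2 hρ hn t

theorem psu_range_fr (hK : Fintype.card K = 16) (h2 : (2 : F) ≠ 0) (hρ : Function.Injective ρ)
    (hn : Fintype.card ι = 12) (p : ℕ) [Fact p.Prime] [CharP F p] : Fr ρ.range p := by
  rintro _ ⟨t, rfl⟩
  exact psu_tr_pow hK h2 hρ hn p t

theorem psu_not_fixQ (hK : Fintype.card K = 16) (h2 : (2 : F) ≠ 0) (hρ : Function.Injective ρ)
    (hn : Fintype.card ι = 12) : ¬ FixQ ρ.range := by
  rintro ⟨Q, hQ, hP⟩
  have hb := hQ.polar_bilinear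
  let B : (ι → F) →ₗ[F] (ι → F) →ₗ[F] F := LinearMap.mk₂ F (QuadraticMap.polar Q) hb.add_left
    (fun c x v => hb.smul_left c x v) hb.add_right (fun c v x => hb.smul_right c v x)
  have hB : ∀ v w, B v w = QuadraticMap.polar Q v w := fun v w => rfl
  obtain ⟨v, hv0, hv⟩ := end_form hK h2 (toEnd_inj ρ hρ) (by rw [Module.finrank_pi, hn]) (B := B)
    (fun v w => by rw [hB, hB, QuadraticMap.polar_comm]) (fun t v w => by
      rw [hB, hB, toEnd_apply, toEnd_apply]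
      have h3 := hP (ρ t : Matrix ι ι F) ⟨_, ⟨t, rfl⟩, rfl⟩
      unfold QuadraticMap.polar
      rw [← Matrix.mulVec_add, h3, h3, h3])
  obtain ⟨x, hx⟩ := (hQ.nondegenerate v hv0).2
  exact hx (hv x)

end gl

end Cfsg.Agent.H881.U34
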