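import Cfsg.Agent.H881.U34.Eig

/-!
Class functions on `SU₃(4)` with vanishing sums over cosets of the root groups: all values.
-/

set_option autoImplicit false
set_option linter.unusedSectionVars false
set_option linter.unusedVariables false

namespace Cfsg.Agent.H881.U34

open Module Cfsg.Agent.ClassicalGeometry Cfsg.Agent.H880

variable {K : Type*} [Field K] [Fintype K] {σ : K →+* K} {G : Type*} [Group G]
  {L : G →* ((Fin 3 → K) ≃ₗ[K] (Fin 3 → K))} {F : Type*} [Field F] {θ : G → F}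

/-- values of `B(u, gu)` on isotropic vectors -/
def Att (σ : K →+* K) (L : G →* ((Fin 3 → K) ≃ₗ[K] (Fin 3 → K))) (g : G) (s : K) : Prop :=
  ∃ u, u ≠ 0 ∧ stB σ 3 u u = 0 ∧ stB σ 3 u (L g u) = s

theorem Att.scale (h : Fld σ) {g : G} {s c : K} (hs : Att σ L g s) (hc : c ^ 4 = c) (hc0 : c ≠ 0) :
    Att σ L g (c * s) := by
  obtain ⟨u, hu0, hu, rfl⟩ := hs
  obtain ⟨k, hk0, hk⟩ := h.norm_surj hc hc0
  refine ⟨k • u, smul_ne_zero hk0 hu0, ?_, ?_⟩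
  · rw [map_smul, LinearMap.map_smulₛₗ₂, hu, smul_zero, smul_zero]
  · rw [map_smul (L g), map_smul, LinearMap.map_smulₛₗ₂, h.conj, smul_eq_mul, smul_eq_mul, ← hk]
    ring

theorem iso_perp (h : Fld σ) {u u' : Fin 3 → K} (hu0 : u ≠ 0) (hu : stB σ 3 u u = 0) (hu' : stB σ 3 u' u' = 0)
    (huu : stB σ 3 u u' = 0) : ∃ t : K, u' = t • u := by
  obtain ⟨v, w, hf⟩ := exists_frame h hu0 hu
  have h1 := hf.expand h u'
  rw [huu, zero_smul, add_zero] at h1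
  have h2 : (stB σ 3 v u') ^ 5 = 0 := by
    generalize stB σ 3 w u' = x at h1
    generalize stB σ 3 v u' = y at h1 ⊢
    rw [h1] at hu'
    simp only [map_add, map_smul, LinearMap.add_apply, LinearMap.map_smulₛₗ₂, hf.uu, hf.uv, hf.vu h, hf.vv, h.conj,
      smul_eq_mul, mul_zero, mul_one, add_zero, zero_add] at hu'
    linear_combination hu'
  have h3 : stB σ 3 v u' = 0 := pow_eq_zero_iff (by norm_num) |>.mp h2
  rw [h3, zero_smul, add_zero] at h1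
  exact ⟨_, h1⟩

theorem Att.ne (hL : SU3 σ L) {g : G} (hg : Irr L g) {s : K} (hs : Att σ L g s) : s ≠ 0 := by
  rintro rfl
  obtain ⟨u, hu0, hu, h1⟩ := hs
  obtain ⟨t, ht⟩ := iso_perp hL.fld hu0 hu (by rw [hL.iso, hu]) h1
  exact hu0 (hg t u ht)

theorem Att.exists (hL : SU3 σ L) {g : G} (hg : Irr L g) : ∃ s, s ^ 5 = 1 ∧ Att σ L g s := by
  have h := hL.fld
  obtain ⟨u, hu0, hu⟩ := exists_iso_vec h
  have h1 : Att σ L g (stB σ 3 u (L g u)) := ⟨u, hu0, hu, rfl⟩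
  have h2 := h1.ne hL hg
  generalize stB σ 3 u (L g u) = b at h1 h2
  refine ⟨b ^ 5 * b, ?_, h1.scale h (h.norm_fix b) (pow_ne_zero 5 h2)⟩
  have := h.pow15 h2
  calc (b ^ 5 * b) ^ 5 = (b ^ 15) ^ 2 := by ring
    _ = 1 := by rw [this]; ring

theorem Att.step (hL : SU3 σ L) {g : G} (hg : Irr L g) {b : K} (hb : b ^ 5 = 1) (hs : Att σ L g b) :
    Att σ L g (ta L g + b ^ 3) := by
  have h := hL.fld
  obtain ⟨u, hu0, hu, h1⟩ := hs
  have h2 : stB σ 3 (L g u) u = b ^ 4 := by rw [← hL.symm.eq, h1, h.conj]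
  have h3 : stB σ 3 (L g u) (L g u) = 0 := by rw [hL.iso, hu]
  have h4 : stB σ 3 (L g u) (L g (L g u)) = b := by rw [hL.iso, h1]
  have h5 : stB σ 3 u (L g (L g u)) = ta L g * b + b ^ 4 := by
    have := congrArg (stB σ 3 (L g u)) (hL.ch g u)
    rw [map_add, map_sub, map_smul, map_smul, hL.iso, h4, h3, h2, smul_zero, sub_zero, smul_eq_mul] at this
    exact this
  refine ⟨b • u + L g u, ?_, ?_, ?_⟩
  · intro h6
    apply hu0
    apply hg (-b)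
    rw [neg_smul]
    exact eq_neg_of_add_eq_zero_right h6
  · simp only [map_add, map_smul, LinearMap.add_apply, LinearMap.map_smulₛₗ₂, hu, h1, h2, h3, h.conj, smul_eq_mul,
      mul_zero, add_zero, zero_add]
    linear_combination b ^ 5 * h.two
  · simp only [map_add, map_smul, LinearMap.add_apply, LinearMap.map_smulₛₗ₂, h1, h3, h4, h5, h.conj, smul_eq_mul,
      add_zero]
    linear_combination (ta L g + b ^ 3 + b) * hb + b * h.two

theorem Att.cycle (hL : SU3 σ L) {g : G} {r : K} (hr : Phi r) (ha : ta L g = 1 + r) :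
    Att σ L g 1 ∧ Att σ L g r ∧ Att σ L g (r ^ 3) := by
  have h := hL.fld
  have h2 := h.two
  have hg := hL.irr hr ha
  have hr' : r ^ 4 + r ^ 3 + r ^ 2 + r + 1 = 0 := hr
  have hw := hr.w h
  have hwf := cube_fix hw
  have hw0 := cube_ne_zero hw
  have hwf2 := cube_fix2 hw
  have hw02 := pow_ne_zero 2 hw0
  have h5 := hr.pow5
  -- 0 → 1
  have s0 : Att σ L g 1 → Att σ L g r := by
    intro h1
    have := h1.step hL hg (one_pow 5)
    rw [ha, show (1 : K) + r + 1 ^ 3 = r by linear_combination h2] at this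
    exact this
  -- 1 → 3
  have s1 : Att σ L g r → Att σ L g (r ^ 3) := by
    intro h1
    have := (h1.step hL hg h5).scale h hwf hw0
    rw [ha, show (r ^ 2 + r ^ 3) * ((1 : K) + r + r ^ 3) = r ^ 3 by
      linear_combination (r ^ 2) * hr'] at this
    exact this
  -- 3 → 0
  have s3 : Att σ L g (r ^ 3) → Att σ L g 1 := by
    intro h1
    have := (h1.step hL hg (by rw [← pow_mul, mul_comm, pow_mul, h5, one_pow])).scale h hwf2 hw02
    rw [ha, show (r ^ 2 + r ^ 3) ^ 2 * ((1 : K) + r + (r ^ 3) ^ 3) = 1 by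
      linear_combination (r ^ 11 + r ^ 10 + (-1) * r ^ 9 + (-1) * r ^ 8 + r ^ 6 + r ^ 5 + (-1) * r ^ 4 + 2 * r ^ 2 +
        r + (-1)) * hr' + ((-1) * r ^ 3 + (-1) * r ^ 2) * h2] at this
    exact this
  -- 2 → 0
  have s2 : Att σ L g (r ^ 2) → Att σ L g 1 := by
    intro h1
    have := (h1.step hL hg (by rw [← pow_mul, mul_comm, pow_mul, h5, one_pow]))
    rw [ha, show (1 : K) + r + (r ^ 2) ^ 3 = 1 by
      linear_combination (r ^ 2 + (-1) * r) * hr' + (r) * h2] at this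
    exact this
  -- 4 → 1
  have s4 : Att σ L g (r ^ 4) → Att σ L g r := by
    intro h1
    have := (h1.step hL hg (by rw [← pow_mul, mul_comm, pow_mul, h5, one_pow])).scale h hwf2 hw02
    rw [ha, show (r ^ 2 + r ^ 3) ^ 2 * ((1 : K) + r + (r ^ 4) ^ 3) = r by
      linear_combination (r ^ 14 + r ^ 13 + (-1) * r ^ 12 + (-1) * r ^ 11 + r ^ 9 + r ^ 8 + (-1) * r ^ 7 + (-1) * r ^ 6 +
        r ^ 4 + 2 * r ^ 3 + r ^ 2 + (-1) * r + (-2)) * hr' + (r ^ 2 + r + 1) * h2] at this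
    exact this
  obtain ⟨s, hs5, hs⟩ := Att.exists hL hg
  have c : Att σ L g 1 := by
    rcases hr.mem hs5 with rfl | rfl | rfl | rfl | rfl
    · exact hs
    · exact s3 (s1 hs)
    · exact s2 hs
    · exact s3 hs
    · exact s3 (s1 (s4 hs))
  exact ⟨c, s0 c, s1 (s0 c)⟩

/-- The relation at `u` with `B(u, gu) = s`. -/
theorem Cusp.att (hL : SU3 σ L) (hθ : Cusp σ L θ) {g : G} {s : K} (hs : Att σ L g s) {w : K} (hw : w ^ 2 + w + 1 = 0) :
    ∃ (u : Fin 3 → K) (z1 z2 z3 : G), IsT σ L u 1 z1 ∧ IsT σ L u w z2 ∧ IsT σ L u (w ^ 2) z3 ∧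
      ta L (g * z1) = ta L g + s ∧ ta L (g * z2) = ta L g + w * s ∧ ta L (g * z3) = ta L g + w ^ 2 * s ∧
      θ g + θ (g * z1) + θ (g * z2) + θ (g * z3) = 0 := by
  obtain ⟨u, hu0, hu, rfl⟩ := hs
  obtain ⟨z1, hz1⟩ := hL.exists_T hu (c := 1) (one_pow 4)
  obtain ⟨z2, hz2⟩ := hL.exists_T hu (cube_fix hw)
  obtain ⟨z3, hz3⟩ := hL.exists_T hu (cube_fix2 hw)
  refine ⟨u, z1, z2, z3, hz1, hz2, hz3, ?_, ta_mul_T g hz2, ta_mul_T g hz3, hθ.rel hu0 hu hw hz1 hz2 hz3 g⟩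
  rw [ta_mul_T g hz1, one_mul]

theorem Phi.pow5' {r : K} (hr : Phi r) (n : ℕ) : (r ^ n) ^ 5 = 1 := by
  rw [← pow_mul, mul_comm, pow_mul, hr.pow5, one_pow]

section values

variable {D : K → F}

theorem Cusp.relA (hL : SU3 σ L) (h2 : (2 : F) ≠ 0) (hθ : Cusp σ L θ)
    (hD : ∀ t, t ^ 5 = 1 → t ≠ 1 → ∀ g, Std σ L 1 t g → θ g = D t) {g : G} {r : K} (hr : Phi r)
    (ha : ta L g = 1 + r) : θ g = - D r := by
  have h := hL.fld
  have h2' := h.two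
  have hr' : r ^ 4 + r ^ 3 + r ^ 2 + r + 1 = 0 := hr
  have hg := hL.irr hr ha
  obtain ⟨u, z1, z2, z3, hz1, hz2, hz3, t1, t2, t3, hrel⟩ := hθ.att hL (Att.cycle hL hr ha).2.2 (hr.w h)
  rw [ha] at t1 t2 t3
  have e1 : θ (g * z1) = 0 := hθ.ta_15 hL h2 (a := 1 + r + r ^ 3) (by
    linear_combination (r ^ 8 + (-1) * r ^ 7 + 4 * r ^ 6 + 2 * r ^ 4 + 7 * r ^ 3 + (-3) * r ^ 2 + 6 * r + 1) * hr' +
      ((-1) * r ^ 3 + r ^ 2 + (-1) * r + 1) * h2') t1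
  have e2 : θ (g * z2) = 0 := hθ.ta_zero hL h2 (by
    rw [t2]
    linear_combination (r ^ 2 + (-1)) * hr' + (r + 1) * h2')
  have e3 : θ (g * z3) = D r := hD r hr.pow5 (hr.ne_one h) _ (hg.ten hL hz3 hr.pow5 (hr.ne_one h) (by
    rw [t3]
    linear_combination (r ^ 5 + r ^ 4 + (-1) * r ^ 3 + (-1) * r ^ 2 + 1) * hr'))
  rw [e1, e2, e3] at hrel
  linear_combination hrel

theorem Cusp.relB (hL : SU3 σ L) (h2 : (2 : F) ≠ 0) (hθ : Cusp σ L θ)
    (hD : ∀ t, t ^ 5 = 1 → t ≠ 1 → ∀ g, Std σ L 1 t g → θ g = D t) {g : G} {r : K} (hr : Phi r)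
    (ha : ta L g = 1 + r) : θ g = - D (r ^ 4) := by
  have h := hL.fld
  have h2' := h.two
  have hr' : r ^ 4 + r ^ 3 + r ^ 2 + r + 1 = 0 := hr
  have hg := hL.irr hr ha
  obtain ⟨u, z1, z2, z3, hz1, hz2, hz3, t1, t2, t3, hrel⟩ := hθ.att hL (Att.cycle hL hr ha).2.1 (hr.w h)
  rw [ha] at t1 t2 t3
  have hr4 : Phi (r ^ 4) := hr.pow (Or.inr (Or.inr rfl))
  have e1 : θ (g * z1) = 0 := hg.unip hL h2 hθ hz1 (by
    rw [t1]
    linear_combination r * h2')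
  have e2 : θ (g * z2) = D (r ^ 4) := hD _ hr4.pow5 (hr4.ne_one h) _ (hg.ten hL hz2 hr4.pow5 (hr4.ne_one h) (by
    rw [t2]
    linear_combination ((-1) * r ^ 8 + r ^ 7 + (-1) * r ^ 3 + r ^ 2 + 1) * hr' + ((-1) * r ^ 2) * h2'))
  have e3 : θ (g * z3) = 0 := hθ.ta_15 hL h2 (a := r + r ^ 2) (by
    linear_combination (r ^ 4 + 3 * r ^ 3 + 2 * r ^ 2 + (-2) * r + (-3)) * hr' + (2 * r ^ 2 + 3 * r + 2) * h2') (by
    rw [t3]
    linear_combination (r ^ 3 + r ^ 2 + (-1) * r + (-1)) * hr' + (r + 1) * h2')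
  rw [e1, e2, e3] at hrel
  linear_combination hrel

theorem Cusp.relC (hL : SU3 σ L) (h2 : (2 : F) ≠ 0) (hθ : Cusp σ L θ)
    (hD : ∀ t, t ^ 5 = 1 → t ≠ 1 → ∀ g, Std σ L 1 t g → θ g = D t) {g : G} {r : K} (hr : Phi r)
    (ha : ta L g = 1 + r) : ∃ g', ta L g' = 1 + r ^ 4 ∧ θ g + D (r ^ 2) + D (r ^ 3) + θ g' = 0 := by
  have h := hL.fld
  have h2' := h.two
  have hr' : r ^ 4 + r ^ 3 + r ^ 2 + r + 1 = 0 := hr
  have hg := hL.irr hr ha
  obtain ⟨u, z1, z2, z3, hz1, hz2, hz3, t1, t2, t3, hrel⟩ := hθ.att hL (Att.cycle hL hr ha).1 (hr.w h)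
  rw [ha] at t1 t2 t3
  have hr2 : Phi (r ^ 2) := hr.pow (Or.inl rfl)
  have hr3 : Phi (r ^ 3) := hr.pow (Or.inr (Or.inl rfl))
  have e1 : θ (g * z1) = D (r ^ 2) := hD _ hr2.pow5 (hr2.ne_one h) _ (hg.ten hL hz1 hr2.pow5 (hr2.ne_one h) (by
    rw [t1]
    linear_combination ((-1) * r ^ 2 + r) * hr' + (1) * h2'))
  have e2 : θ (g * z2) = D (r ^ 3) := hD _ hr3.pow5 (hr3.ne_one h) _ (hg.ten hL hz2 hr3.pow5 (hr3.ne_one h) (by
    rw [t2]
    linear_combination ((-1) * r ^ 5 + r ^ 4 + (-1)) * hr' + (r ^ 3 + r ^ 2 + r + 1) * h2'))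
  refine ⟨g * z3, ?_, ?_⟩
  · rw [t3]
    linear_combination (r ^ 2 + r + (-2)) * hr' + (r + 1) * h2'
  · rw [← e1, ← e2]
    exact hrel

end values

/-! ### trace a cube root of unity -/

theorem eigen_perp (hL : SU3 σ L) {g : G} {x y : Fin 3 → K} {s t : K} (hx : L g x = s • x) (hy : L g y = t • y)
    (hst : s ^ 4 * t ≠ 1) : stB σ 3 x y = 0 := by
  have h1 := hL.iso g x y
  rw [hx, hy, map_smul, LinearMap.map_smulₛₗ₂, hL.fld.conj, smul_eq_mul, smul_eq_mul] at h1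
  have h2 : (s ^ 4 * t - 1) * stB σ 3 x y = 0 := by linear_combination h1
  exact (mul_eq_zero.mp h2).resolve_left (sub_ne_zero.mpr hst)

theorem SU3.att_cube (hL : SU3 σ L) {g : G} {r : K} (hr : Phi r) (ha : ta L g = 1 + r + r ^ 4) :
    Att σ L g (r ^ 4) := by
  have h := hL.fld
  have h2' := h.two
  have hr' : r ^ 4 + r ^ 3 + r ^ 2 + r + 1 = 0 := hr
  have hr2 : Phi (r ^ 2) := hr.pow (Or.inl rfl)
  have hr3 : Phi (r ^ 3) := hr.pow (Or.inr (Or.inl rfl))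
  have hr4 : Phi (r ^ 4) := hr.pow (Or.inr (Or.inr rfl))
  have h5 := hr.pow5
  have hcube : (1 + r + r ^ 4) ^ 2 + (1 + r + r ^ 4) + 1 = 0 := by
    linear_combination (r ^ 4 + (-1) * r ^ 3 + 2 * r + 1) * hr' + ((-1) * r ^ 3 + (-1) * r ^ 2 + 1) * h2'
  obtain ⟨x1, hx10, hx1⟩ := hL.root g (t := 1) (by
    rw [ha]
    have := cube_fix hcube
    linear_combination this)
  obtain ⟨x2, hx20, hx2⟩ := hL.root g (t := r) (by
    rw [ha]
    linear_combination (r ^ 13 + (-1) * r ^ 12 + 4 * r ^ 10 + (-3) * r ^ 8 + 5 * r ^ 7 + 6 * r ^ 6 + (-2) * r ^ 5 +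
      (-2) * r ^ 4 + 5 * r ^ 3 + 4 * r ^ 2 + (-3)) * hr' + (r ^ 2 + 2 * r + 1) * h2')
  obtain ⟨x3, hx30, hx3⟩ := hL.root g (t := r ^ 4) (by
    rw [ha]
    linear_combination (r ^ 16 + (-1) * r ^ 15 + 4 * r ^ 13 + (-3) * r ^ 11 + 5 * r ^ 10 + 6 * r ^ 9 + (-2) * r ^ 8 +
      (-2) * r ^ 7 + 5 * r ^ 6 + 4 * r ^ 5 + (-1) * r ^ 4 + (-2) * r ^ 3 + 3 * r + 1) * hr' +
      ((-1) * r ^ 3 + (-2) * r ^ 2 + (-2) * r + (-1)) * h2')
  have p12 : stB σ 3 x1 x2 = 0 := eigen_perp hL hx1 hx2 (by rw [one_pow, one_mul]; exact hr.ne_one h)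
  have p13 : stB σ 3 x1 x3 = 0 := eigen_perp hL hx1 hx3 (by rw [one_pow, one_mul]; exact hr4.ne_one h)
  have p23 : stB σ 3 x2 x3 = 0 := eigen_perp hL hx2 hx3 (by
    have : r ^ 4 * r ^ 4 = r ^ 3 := by linear_combination r ^ 3 * h5
    rw [this]; exact hr3.ne_one h)
  have hS := hL.symm
  have p21 := symm_zero hS p12
  have p31 := symm_zero hS p13
  have p32 := symm_zero hS p23
  have nz : ∀ (x : Fin 3 → K) (t : K), x ≠ 0 → L g x = t • x → t ^ 5 = 1 → stB σ 3 x x ≠ 0 := by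
    intro x t hx0 hx ht hxx
    have h6 := hL.ta_eigen' hx0 hxx hx ht
    rw [h6] at ha
    rw [← ha] at hcube
    have h7 : (t ^ 3) ^ 3 = 1 := by linear_combination (t ^ 3 - 1) * hcube
    have h8 : t ^ 3 = 1 := by
      calc t ^ 3 = (t ^ 3) ^ 3 * (t ^ 3) ^ 3 * (t ^ 3) ^ 3 * t ^ 3 * 1 := by rw [h7]; ring
        _ = (t ^ 5) ^ 6 := by ring
        _ = 1 := by rw [ht, one_pow]
    rw [h8] at hcube
    have : (1 : K) = 0 := by linear_combination hcube - h2'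
    exact one_ne_zero this
  have n1 := nz x1 1 hx10 hx1 (one_pow 5)
  have n2 := nz x2 r hx20 hx2 h5
  have n3 := nz x3 (r ^ 4) hx30 hx3 hr4.pow5
  have f : ∀ x : Fin 3 → K, (stB σ 3 x x) ^ 4 = stB σ 3 x x := fun x => by rw [← h.conj, hS.eq]
  have hc0 := cube_ne_zero hcube
  obtain ⟨k1, hk10, hk1⟩ := h.norm_surj (c := 1 / stB σ 3 x1 x1) (by rw [div_pow, f, one_pow]) (div_ne_zero one_ne_zero n1)
  obtain ⟨k2, hk20, hk2⟩ := h.norm_surj (c := (1 + r + r ^ 4) / stB σ 3 x2 x2) (by rw [div_pow, f, cube_fix hcube])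
    (div_ne_zero hc0 n2)
  obtain ⟨k3, hk30, hk3⟩ := h.norm_surj (c := (1 + r + r ^ 4) ^ 2 / stB σ 3 x3 x3)
    (by rw [div_pow, f, cube_fix2 hcube]) (div_ne_zero (pow_ne_zero 2 hc0) n3)
  have m1 : k1 ^ 5 * stB σ 3 x1 x1 = 1 := by rw [hk1, div_mul_cancel₀ _ n1]
  have m2 : k2 ^ 5 * stB σ 3 x2 x2 = 1 + r + r ^ 4 := by rw [hk2, div_mul_cancel₀ _ n2]
  have m3 : k3 ^ 5 * stB σ 3 x3 x3 = (1 + r + r ^ 4) ^ 2 := by rw [hk3, div_mul_cancel₀ _ n3]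
  refine ⟨k1 • x1 + k2 • x2 + k3 • x3, ?_, ?_, ?_⟩
  · intro h6
    have := congrArg (stB σ 3 x1) h6
    rw [map_add, map_add, map_smul, map_smul, map_smul, p12, p13, map_zero, smul_zero, smul_zero, add_zero, add_zero,
      smul_eq_mul] at this
    exact mul_ne_zero hk10 n1 this
  · simp only [map_add, map_smul, LinearMap.add_apply, LinearMap.map_smulₛₗ₂, p12, p13, p23, p21, p31, p32, h.conj,
      smul_eq_mul, mul_zero, add_zero, zero_add]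
    linear_combination m1 + m2 + m3 + hcube
  · simp only [map_add, map_smul, hx1, hx2, hx3, LinearMap.add_apply, LinearMap.map_smulₛₗ₂, p12, p13, p23, p21, p31,
      p32, h.conj, smul_eq_mul, mul_zero, add_zero, zero_add]
    linear_combination m1 + r * m2 + r ^ 4 * m3 +
      (r ^ 8 + (-1) * r ^ 7 + 2 * r ^ 5 + (-1) * r ^ 3 + 2 * r + (-1)) * hr' + (1) * h2'

end Cfsg.Agent.H881.U34
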