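import Cfsg.Agent.H881.U34.Inv

/-!
Representations of `SU₃(4)` in odd characteristic: dimension at least 12; the trace in dimension 12.
-/

set_option autoImplicit false
set_option linter.unusedSectionVars false
set_option linter.unusedVariables false

namespace Cfsg.Agent.H881.U34

open Module Cfsg.Agent.ClassicalGeometry Cfsg.Agent.H880

section elements

variable {K : Type*} [Field K] [Fintype K] {σ : K →+* K} {G : Type*} [Group G]
  {L : G →* ((Fin 3 → K) ≃ₗ[K] (Fin 3 → K))}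

/-- Siegel elements on a frame. -/
def IsS (L : G →* ((Fin 3 → K) ≃ₗ[K] (Fin 3 → K))) (u v w : Fin 3 → K) (b n : K) (s : G) : Prop :=
  L s u = u ∧ L s v = v + b ^ 4 • u ∧ L s w = w + b • v + n • u

theorem SU3.exists_S (hL : SU3 σ L) {u v w : Fin 3 → K} (hf : Frame σ u v w) {b n : K} (hn : n + n ^ 4 = b ^ 5) :
    ∃ s, IsS L u v w b n s := by
  have h := hL.fld
  have hux : stB σ 3 u (b • v) = 0 := by rw [map_smul, hf.uv, smul_zero]
  have hxx : stB σ 3 (b • v) (b • v) = b ^ 5 := by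
    rw [map_smul, LinearMap.map_smulₛₗ₂, hf.vv, h.conj, smul_eq_mul, smul_eq_mul]; ring
  obtain ⟨s', hs', hs1, hs2⟩ := exists_siegel hL.symm hf.uu hux (ν := n) (by rw [h.conj, hn, hxx])
  obtain ⟨s, hs⟩ := hL.surj s' hs1 hs2
  refine ⟨s, ?_, ?_, ?_⟩
  · rw [hs, hs', hf.uu, symm_zero hL.symm hux]
    simp
  · rw [hs, hs', hf.uv, LinearMap.map_smulₛₗ₂, hf.vv, h.conj, smul_eq_mul]
    linear_combination (norm := module) (-b ^ 4 * h.two) • u
  · rw [hs, hs', hf.uw, LinearMap.map_smulₛₗ₂, hf.vw]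
    linear_combination (norm := module) (-n * h.two) • u

theorem IsT.frame (h : Fld σ) {u v w : Fin 3 → K} (hf : Frame σ u v w) {c : K} {z : G} (hz : IsT σ L u c z) :
    L z u = u ∧ L z v = v ∧ L z w = w + c • u :=
  ⟨by rw [hz, hf.uu, mul_zero, zero_smul, add_zero], by rw [hz, hf.uv, mul_zero, zero_smul, add_zero], by
    rw [hz, hf.uw, mul_one]⟩

theorem SU3.frame_ext (hL : SU3 σ L) {u v w : Fin 3 → K} (hf : Frame σ u v w) {g g' : G} (hu : L g u = L g' u)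
    (hv : L g v = L g' v) (hw : L g w = L g' w) : g = g' := by
  apply hL.inj
  apply LinearEquiv.toLinearMap_injective
  exact hf.ext hL.fld hu hv hw

theorem IsS.sq (hL : SU3 σ L) {u v w : Fin 3 → K} (hf : Frame σ u v w) {b n c : K} {s z : G} (hs : IsS L u v w b n s)
    (hz : IsT σ L u c z) (hc : b ^ 5 = c) : s * s = z := by
  have h := hL.fld
  obtain ⟨z1, z2, z3⟩ := hz.frame h hf
  obtain ⟨s1, s2, s3⟩ := hs
  apply hL.frame_ext hf
  · rw [map_mul, LinearEquiv.mul_apply, s1, s1, z1]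
  · rw [map_mul, LinearEquiv.mul_apply, s2, map_add, map_smul, s2, s1, z2]
    linear_combination (norm := module) (b ^ 4 * h.two) • u
  · rw [map_mul, LinearEquiv.mul_apply, s3, map_add, map_add, map_smul, map_smul, s3, s2, s1, z3, ← hc]
    linear_combination (norm := module) (b * h.two) • v + (n * h.two) • u

theorem IsS.comm (hL : SU3 σ L) {u v w : Fin 3 → K} (hf : Frame σ u v w) {b n b' n' c : K} {s s' z : G}
    (hs : IsS L u v w b n s) (hs' : IsS L u v w b' n' s') (hz : IsT σ L u c z) (hc : b ^ 4 * b' + b * b' ^ 4 = c) :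
    s * s' = z * (s' * s) := by
  have h := hL.fld
  obtain ⟨z1, z2, z3⟩ := hz.frame h hf
  obtain ⟨s1, s2, s3⟩ := hs
  obtain ⟨s1', s2', s3'⟩ := hs'
  apply hL.frame_ext hf
  · simp only [map_mul, LinearEquiv.mul_apply, s1, s1', z1]
  · simp only [map_mul, LinearEquiv.mul_apply, s1, s1', z1, s2, s2', z2, map_add, map_smul]
    module
  · simp only [map_mul, LinearEquiv.mul_apply, s1, s1', z1, s2, s2', z2, s3, s3', z3, map_add, map_smul, ← hc]
    linear_combination (norm := module) (- b * b' ^ 4 * h.two) • u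

theorem IsS.central (hL : SU3 σ L) {u v w : Fin 3 → K} (hf : Frame σ u v w) {b n c : K} {s z : G}
    (hs : IsS L u v w b n s) (hz : IsT σ L u c z) : z * s = s * z := by
  have h := hL.fld
  obtain ⟨z1, z2, z3⟩ := hz.frame h hf
  obtain ⟨s1, s2, s3⟩ := hs
  apply hL.frame_ext hf
  · simp only [map_mul, LinearEquiv.mul_apply, s1, z1]
  · simp only [map_mul, LinearEquiv.mul_apply, z1, s2, z2, map_add, map_smul]
  · simp only [map_mul, LinearEquiv.mul_apply, s1, z1, z2, s3, z3, map_add, map_smul]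
    module

/-- The transvections with centre `u`. -/
structure Rt (σ : K →+* K) (L : G →* ((Fin 3 → K) ≃ₗ[K] (Fin 3 → K))) (u : Fin 3 → K) (w : K) (z1 z2 z3 : G) :
    Prop where
  hu0 : u ≠ 0
  hu : stB σ 3 u u = 0
  hw : w ^ 2 + w + 1 = 0
  h1 : IsT σ L u 1 z1
  h2 : IsT σ L u w z2
  h3 : IsT σ L u (w ^ 2) z3

variable {u : Fin 3 → K} {w : K} {z1 z2 z3 : G}

theorem SU3.exists_Rt (hL : SU3 σ L) {u : Fin 3 → K} (hu0 : u ≠ 0) (hu : stB σ 3 u u = 0) {w : K}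
    (hw : w ^ 2 + w + 1 = 0) : ∃ z1 z2 z3, Rt σ L u w z1 z2 z3 := by
  obtain ⟨z1, hz1⟩ := hL.exists_T hu (c := 1) (one_pow 4)
  obtain ⟨z2, hz2⟩ := hL.exists_T hu (cube_fix hw)
  obtain ⟨z3, hz3⟩ := hL.exists_T hu (cube_fix2 hw)
  exact ⟨z1, z2, z3, hu0, hu, hw, hz1, hz2, hz3⟩

theorem Rt.m12 (hL : SU3 σ L) (h : Rt σ L u w z1 z2 z3) : z1 * z2 = z3 := by
  have h4 := h.h1.mul hL h.hu h.h2
  have h5 : 1 + w = w ^ 2 := by linear_combination h.hw - w ^ 2 * hL.fld.two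
  rw [h5] at h4
  exact h4.eq hL h.h3

theorem Rt.m21 (hL : SU3 σ L) (h : Rt σ L u w z1 z2 z3) : z2 * z1 = z3 := by
  have h4 := h.h2.mul hL h.hu h.h1
  have h5 : w + 1 = w ^ 2 := by linear_combination h.hw - w ^ 2 * hL.fld.two
  rw [h5] at h4
  exact h4.eq hL h.h3

/-- The cyclic permutation of the transvections. -/
theorem Rt.cyc (hL : SU3 σ L) (h : Rt σ L u w z1 z2 z3) :
    ∃ g, g * z1 * g⁻¹ = z2 ∧ g * z2 * g⁻¹ = z3 ∧ g * z3 * g⁻¹ = z1 := by
  have hf := hL.fld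
  obtain ⟨k, hk0, hk⟩ := hf.norm_surj (cube_fix h.hw) (cube_ne_zero h.hw)
  obtain ⟨g, hg⟩ := hL.move h.hu0 (smul_ne_zero hk0 h.hu0) (v' := k • u) (by
    rw [map_smul, LinearMap.map_smulₛₗ₂, h.hu, smul_zero, smul_zero])
  have key : ∀ {c c' : K} {z z' : G}, IsT σ L u c z → IsT σ L u c' z' → w * c = c' → g * z * g⁻¹ = z' := by
    intro c c' z z' hz hz' hc
    have h4 := hz.conj hL g
    rw [hg] at h4
    have h5 := h4.smul hL
    rw [hk, hc] at h5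
    exact h5.eq hL hz'
  refine ⟨g, key h.h1 h.h2 (mul_one w), key h.h2 h.h3 (by ring), key h.h3 h.h1 ?_⟩
  linear_combination (w - 1) * h.hw

/-- The four elements. -/
theorem Rt.four (hL : SU3 σ L) (h : Rt σ L u w z1 z2 z3) :
    ∃ s1 s2 s3 s4 : G, s1 * s1 = z1 ∧ s3 * s3 = z3 ∧ (s4 * s4 = z2 ∨ s4 * s4 = z3) ∧ s1 * s2 = z2 * (s2 * s1) ∧
      s1 * s3 = s3 * s1 ∧ s1 * s4 = z1 * (s4 * s1) ∧ s3 * s4 = z2 * (s4 * s3) ∧
      (∀ s, s = s1 ∨ s = s2 ∨ s = s3 ∨ s = s4 → z1 * s = s * z1 ∧ z2 * s = s * z2) := by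
  have hF := hL.fld
  obtain ⟨v, x, hf⟩ := exists_frame hF h.hu0 h.hu
  have hw := h.hw
  obtain ⟨t, ht⟩ := hF.trace_surj (c := 1) (one_pow 4)
  rw [hF.conj] at ht
  have nu : ∀ b : K, ∃ n, n + n ^ 4 = b ^ 5 := fun b => by
    obtain ⟨n, hn⟩ := hF.trace_surj (hF.norm_fix b)
    rw [hF.conj] at hn
    exact ⟨n, hn⟩
  obtain ⟨n1, hn1⟩ := nu 1
  obtain ⟨n2, hn2⟩ := nu (w * t)
  obtain ⟨n3, hn3⟩ := nu w
  obtain ⟨n4, hn4⟩ := nu t
  obtain ⟨s1, hs1⟩ := hL.exists_S hf hn1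
  obtain ⟨s2, hs2⟩ := hL.exists_S hf hn2
  obtain ⟨s3, hs3⟩ := hL.exists_S hf hn3
  obtain ⟨s4, hs4⟩ := hL.exists_S hf hn4
  have w4 := cube_fix hw
  refine ⟨s1, s2, s3, s4, hs1.sq hL hf h.h1 (one_pow 5), hs3.sq hL hf h.h3 ?_, ?_, hs1.comm hL hf hs2 h.h2 ?_, ?_,
    hs1.comm hL hf hs4 h.h1 ?_, hs3.comm hL hf hs4 h.h2 ?_, ?_⟩
  · linear_combination w * w4
  · rcases fix_cases hw (hF.norm_fix t) with h4 | h4 | h4 | h4
    · exfalso
      have h5 : t = 0 := pow_eq_zero_iff (by norm_num) |>.mp h4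
      rw [h5] at ht
      norm_num at ht
    · exfalso
      have h5 : t ^ 2 + t + 1 = 0 := by linear_combination t * ht - h4 + t * hF.two
      have : (1 : K) = 0 := by linear_combination -ht + cube_fix h5 + t * hF.two
      exact one_ne_zero this
    · exact Or.inl (hs4.sq hL hf h.h2 h4)
    · exact Or.inr (hs4.sq hL hf h.h3 h4)
  · rw [mul_pow, w4]
    linear_combination w * ht
  · have h4 := hs1.comm hL hf hs3 (IsT.one (u := u)) (by linear_combination w4 + w * hF.two)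
    rw [h4, one_mul]
  · linear_combination ht
  · linear_combination w * ht + t * w4
  · rintro s (rfl | rfl | rfl | rfl)
    · exact ⟨hs1.central hL hf h.h1, hs1.central hL hf h.h2⟩
    · exact ⟨hs2.central hL hf h.h1, hs2.central hL hf h.h2⟩
    · exact ⟨hs3.central hL hf h.h1, hs3.central hL hf h.h2⟩
    · exact ⟨hs4.central hL hf h.h1, hs4.central hL hf h.h2⟩

end elements

section rep

variable {K : Type*} [Field K] [Fintype K] {σ : K →+* K} {G : Type*} [Group G]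
  {L : G →* ((Fin 3 → K) ≃ₗ[K] (Fin 3 → K))} {F V : Type*} [Field F] [AddCommGroup V] [Module F V]
  [FiniteDimensional F V] {ρ : G →* Module.End F V} {u : Fin 3 → K} {w : K} {z1 z2 z3 : G}

/-- `ρ a = 1`, `ρ b = -1` -/
def WW (ρ : G →* Module.End F V) (a b : G) : Submodule F V := negS (posS ⊤ (ρ a)) (ρ b)

theorem mem_WW {a b : G} {v : V} : v ∈ WW ρ a b ↔ ρ a v = v ∧ ρ b v = -v := by
  unfold WW
  rw [mem_negS, mem_posS]
  constructor
  · rintro ⟨⟨-, h⟩, h'⟩; exact ⟨h, h'⟩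
  · rintro ⟨h, h'⟩; exact ⟨⟨trivial, h⟩, h'⟩

theorem rho_mul (a b : G) (v : V) : ρ (a * b) v = ρ a (ρ b v) := by rw [map_mul]; rfl

theorem rho_inv (g : G) (v : V) : ρ g⁻¹ (ρ g v) = v := by rw [← rho_mul, inv_mul_cancel, map_one]; rfl

theorem rho_inj {g : G} {v : V} (h : ρ g v = 0) : v = 0 := by rw [← rho_inv (ρ := ρ) g v, h, map_zero]

theorem WW_conj (g a b : G) : finrank F (WW ρ a b) ≤ finrank F (WW ρ (g * a * g⁻¹) (g * b * g⁻¹)) := by
  refine finrank_map_inj (Y := ρ g) (fun v _ => rho_inj) fun v hv => ?_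
  obtain ⟨h1, h2⟩ := mem_WW.mp hv
  refine mem_WW.mpr ⟨?_, ?_⟩
  · rw [rho_mul, rho_inv, rho_mul, h1]
  · rw [rho_mul, rho_inv, rho_mul, h2, map_neg]

theorem Rt.frk (hL : SU3 σ L) (h2 : (2 : F) ≠ 0) (h : Rt σ L u w z1 z2 z3) :
    finrank F V = finrank F (posS (posS ⊤ (ρ z1)) (ρ z2)) + 3 * finrank F (WW ρ z1 z2) ∧
      finrank F (posS ⊤ (ρ z1)) = finrank F (posS (posS ⊤ (ρ z1)) (ρ z2)) + finrank F (WW ρ z1 z2) := by
  have q1 := h.h1.sq hL h.hu
  have q2 := h.h2.sq hL h.hu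
  have q3 := h.h3.sq hL h.hu
  have m12 := h.m12 hL
  have m21 := h.m21 hL
  have sq : ∀ {z : G}, z * z = 1 → ∀ v : V, ρ z (ρ z v) = v := fun hz v => by
    rw [← rho_mul, hz, map_one]; rfl
  have c12 : ∀ v : V, ρ z1 (ρ z2 v) = ρ z2 (ρ z1 v) := fun v => by rw [← rho_mul, ← rho_mul, m12, m21]
  have e1 := inv_split h2 ⊤ (A := ρ z1) (fun v _ => sq q1 v) (fun v _ => trivial)
  rw [finrank_top] at e1
  have e2 := inv_split h2 (posS ⊤ (ρ z1)) (A := ρ z2) (fun v _ => sq q2 v) (fun v hv => by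
    rw [mem_posS] at hv ⊢
    exact ⟨trivial, by rw [c12, hv.2]⟩)
  have e3 := inv_split h2 (negS ⊤ (ρ z1)) (A := ρ z2) (fun v _ => sq q2 v) (fun v hv => by
    rw [mem_negS] at hv ⊢
    exact ⟨trivial, by rw [c12, hv.2, map_neg]⟩)
  have e4 : posS (negS ⊤ (ρ z1)) (ρ z2) = WW ρ z2 z3 := by
    ext v
    rw [mem_posS, mem_negS, mem_WW, ← m12, rho_mul]
    constructor
    · rintro ⟨⟨-, h4⟩, h5⟩
      exact ⟨h5, by rw [h5, h4]⟩
    · rintro ⟨h4, h5⟩
      rw [h4] at h5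
      exact ⟨⟨trivial, h5⟩, h4⟩
  have e5 : negS (negS ⊤ (ρ z1)) (ρ z2) = WW ρ z3 z1 := by
    ext v
    rw [mem_negS, mem_negS, mem_WW, ← m12, rho_mul]
    constructor
    · rintro ⟨⟨-, h4⟩, h5⟩
      exact ⟨by rw [h5, map_neg, h4, neg_neg], h4⟩
    · rintro ⟨h4, h5⟩
      refine ⟨⟨trivial, h5⟩, ?_⟩
      rw [c12, h5, map_neg] at h4
      rw [← h4, neg_neg]
      exact congrArg (ρ z2) (by rw [h4])
  rw [e4, e5] at e3
  obtain ⟨g, g1, g2, g3⟩ := h.cyc hL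
  have f1 := WW_conj (ρ := ρ) g z1 z2
  have f2 := WW_conj (ρ := ρ) g z2 z3
  have f3 := WW_conj (ρ := ρ) g z3 z1
  rw [g1, g2] at f1
  rw [g2, g3] at f2
  rw [g3, g1] at f3
  have e6 : negS (posS ⊤ (ρ z1)) (ρ z2) = WW ρ z1 z2 := rfl
  rw [e6] at e2
  exact ⟨by omega, e2⟩

end rep

end Cfsg.Agent.H881.U34
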