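import Cfsg.Agent.H881.U34.Rep

/-!
Representations of `SU₃(4)` in odd characteristic: dimension at least 12; the trace in dimension 12; forms.
-/

set_option autoImplicit false
set_option linter.unusedSectionVars false
set_option linter.unusedVariables false

namespace Cfsg.Agent.H881.U34

open Module Cfsg.Agent.ClassicalGeometry Cfsg.Agent.H880

section trace

variable {F V : Type*} [Field F] [AddCommGroup V] [Module F V] [FiniteDimensional F V]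

theorem inv_trace (h2 : (2 : F) ≠ 0) {A : V →ₗ[F] V} (hA : ∀ v, A (A v) = v) :
    LinearMap.trace F V A = 2 * (finrank F (posS ⊤ A) : F) - (finrank F V : F) := by
  have h1 : LinearMap.IsProj (posS ⊤ A) ((2 : F)⁻¹ • (A + LinearMap.id)) := by
    constructor
    · intro v
      rw [mem_posS]
      refine ⟨trivial, ?_⟩
      rw [LinearMap.smul_apply, LinearMap.add_apply, LinearMap.id_apply, map_smul, map_add, hA, add_comm]
    · intro v hv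
      rw [mem_posS] at hv
      rw [LinearMap.smul_apply, LinearMap.add_apply, LinearMap.id_apply, hv.2, ← two_smul F v, smul_smul,
        inv_mul_cancel₀ h2, one_smul]
  have h3 := h1.trace
  rw [map_smul, map_add, LinearMap.trace_id, smul_eq_mul] at h3
  have h4 : LinearMap.trace F V A + (finrank F V : F) = 2 * (finrank F (posS ⊤ A) : F) := by
    rw [← h3, mul_inv_cancel_left₀ h2]
  linear_combination h4

end trace

variable {K : Type*} [Field K] [Fintype K] {σ : K →+* K} {G : Type*} [Group G]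
  {L : G →* ((Fin 3 → K) ≃ₗ[K] (Fin 3 → K))} {F V : Type*} [Field F] [AddCommGroup V] [Module F V]
  [FiniteDimensional F V] {ρ : G →* Module.End F V} {u : Fin 3 → K} {w : K} {z1 z2 z3 : G}

theorem Rt.dim4 (hL : SU3 σ L) (h2 : (2 : F) ≠ 0) (h : Rt σ L u w z1 z2 z3) (hW : WW ρ z1 z2 ≠ ⊥) :
    ∃ s1 s3 s4 : G, (finrank F (WW ρ z1 z2) = 2 * finrank F (posS (WW ρ z1 z2) (ρ s1)) ∧
      2 ≤ finrank F (posS (WW ρ z1 z2) (ρ s1))) ∧
      (∀ v ∈ WW ρ z1 z2, ρ s1 v ∈ WW ρ z1 z2 ∧ ρ s1 (ρ s1 v) = v) ∧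
      (∀ v ∈ posS (WW ρ z1 z2) (ρ s1), ρ s3 v ∈ posS (WW ρ z1 z2) (ρ s1)) ∧
      (∀ v ∈ posS (WW ρ z1 z2) (ρ s1), ρ s4 v ∈ posS (WW ρ z1 z2) (ρ s1)) ∧
      (∀ v ∈ posS (WW ρ z1 z2) (ρ s1), ρ s3 (ρ s4 v) = - ρ s4 (ρ s3 v)) ∧
      (∀ v ∈ posS (WW ρ z1 z2) (ρ s1), ρ s3 (ρ s3 v) = - v) ∧
      (∀ v ∈ posS (WW ρ z1 z2) (ρ s1), ρ s4 (ρ s4 v) = - v) := by
  obtain ⟨s1, s2, s3, s4, q1, q3, q4, c12, c13, c14, c34, hc⟩ := h.four hL
  have m12 := h.m12 hL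
  have st : ∀ s, s = s1 ∨ s = s2 ∨ s = s3 ∨ s = s4 → ∀ v ∈ WW ρ z1 z2, ρ s v ∈ WW ρ z1 z2 := by
    intro s hs v hv
    obtain ⟨h1, h2⟩ := mem_WW.mp hv
    obtain ⟨e1, e2⟩ := hc s hs
    refine mem_WW.mpr ⟨?_, ?_⟩
    · rw [← rho_mul, e1, rho_mul, h1]
    · rw [← rho_mul, e2, rho_mul, h2, map_neg]
  have t1 := st s1 (Or.inl rfl)
  have t2 := st s2 (Or.inr (Or.inl rfl))
  have t3 := st s3 (Or.inr (Or.inr (Or.inl rfl)))
  have t4 := st s4 (Or.inr (Or.inr (Or.inr rfl)))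
  have w3 : ∀ v ∈ WW ρ z1 z2, ρ z3 v = -v := fun v hv => by
    obtain ⟨h1, h2⟩ := mem_WW.mp hv
    rw [← m12, rho_mul, h2, map_neg, h1]
  have a1 : ∀ v ∈ WW ρ z1 z2, ρ s1 (ρ s1 v) = v := fun v hv => by
    rw [← rho_mul, q1, (mem_WW.mp hv).1]
  have a3 : ∀ v ∈ WW ρ z1 z2, ρ s3 (ρ s3 v) = -v := fun v hv => by rw [← rho_mul, q3, w3 v hv]
  have a4 : ∀ v ∈ WW ρ z1 z2, ρ s4 (ρ s4 v) = -v := fun v hv => by
    rw [← rho_mul]
    rcases q4 with q4 | q4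
    · rw [q4, (mem_WW.mp hv).2]
    · rw [q4, w3 v hv]
  have b12 : ∀ v ∈ WW ρ z1 z2, ρ s1 (ρ s2 v) = - ρ s2 (ρ s1 v) := fun v hv => by
    rw [← rho_mul, c12, rho_mul, rho_mul, (mem_WW.mp (t2 _ (t1 v hv))).2]
  have b13 : ∀ v ∈ WW ρ z1 z2, ρ s1 (ρ s3 v) = ρ s3 (ρ s1 v) := fun v hv => by
    rw [← rho_mul, c13, rho_mul]
  have b14 : ∀ v ∈ WW ρ z1 z2, ρ s1 (ρ s4 v) = ρ s4 (ρ s1 v) := fun v hv => by
    rw [← rho_mul, c14, rho_mul, rho_mul, (mem_WW.mp (t4 _ (t1 v hv))).1]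
  have b34 : ∀ v ∈ WW ρ z1 z2, ρ s3 (ρ s4 v) = - ρ s4 (ρ s3 v) := fun v hv => by
    rw [← rho_mul, c34, rho_mul, rho_mul, (mem_WW.mp (t4 _ (t3 v hv))).2]
  refine ⟨s1, s3, s4, extra h2 hW t1 t2 t3 t4 a1 b12 (fun v _ => rho_inj) b13 b14 b34 a3 a4,
    fun v hv => ⟨t1 v hv, a1 v hv⟩, fun v hv => ?_, fun v hv => ?_, fun v hv => b34 v (mem_posS.mp hv).1,
    fun v hv => a3 v (mem_posS.mp hv).1, fun v hv => a4 v (mem_posS.mp hv).1⟩
  · obtain ⟨h3, h4⟩ := mem_posS.mp hv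
    exact mem_posS.mpr ⟨t3 v h3, by rw [b13 v h3, h4]⟩
  · obtain ⟨h3, h4⟩ := mem_posS.mp hv
    exact mem_posS.mpr ⟨t4 v h3, by rw [b14 v h3, h4]⟩

theorem IsT.ne_one (h : Fld σ) {u : Fin 3 → K} (hu0 : u ≠ 0) (hu : stB σ 3 u u = 0) {c : K} (hc : c ≠ 0) {z : G}
    (hz : IsT σ L u c z) : z ≠ 1 := by
  rintro rfl
  obtain ⟨v, x, hf⟩ := exists_frame h hu0 hu
  have := (hz.frame h hf).2.2
  rw [map_one] at this
  have h1 : x = x + c • u := this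
  have h2 : c • u = 0 := by
    rw [left_eq_add] at h1
    exact h1
  rcases smul_eq_zero.mp h2 with h3 | h3
  · exact hc h3
  · exact hu0 h3

theorem Rt.WW_ne (hL : SU3 σ L) (h2 : (2 : F) ≠ 0) (hρ : ∀ g, ρ g = 1 → g = 1) (h : Rt σ L u w z1 z2 z3) :
    WW ρ z1 z2 ≠ ⊥ := by
  intro h0
  obtain ⟨e1, e2⟩ := h.frk (ρ := ρ) hL h2
  rw [h0, finrank_bot] at e1 e2
  have e3 : posS ⊤ (ρ z1) = ⊤ := by
    apply Submodule.eq_top_of_finrank_eq
    omega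
  apply h.h1.ne_one hL.fld h.hu0 h.hu one_ne_zero
  apply hρ
  refine LinearMap.ext fun v => ?_
  have : v ∈ posS ⊤ (ρ z1) := by rw [e3]; trivial
  exact (mem_posS.mp this).2

theorem twelve_le (hL : SU3 σ L) (h2 : (2 : F) ≠ 0) (hρ : ∀ g, ρ g = 1 → g = 1) : 12 ≤ finrank F V := by
  obtain ⟨u, hu0, hu⟩ := exists_iso_vec hL.fld
  obtain ⟨w, hw⟩ := exists_cube hL.fld
  obtain ⟨z1, z2, z3, h⟩ := hL.exists_Rt hu0 hu hw
  obtain ⟨s1, s3, s4, ⟨e1, e2⟩, -⟩ := h.dim4 hL h2 (h.WW_ne hL h2 hρ)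
  have e3 := (h.frk (ρ := ρ) hL h2).1
  omega

theorem Rt.twelve (hL : SU3 σ L) (h2 : (2 : F) ≠ 0) (hρ : ∀ g, ρ g = 1 → g = 1) (h12 : finrank F V = 12)
    (h : Rt σ L u w z1 z2 z3) : finrank F (WW ρ z1 z2) = 4 ∧ posS (posS ⊤ (ρ z1)) (ρ z2) = ⊥ ∧
      finrank F (posS ⊤ (ρ z1)) = 4 := by
  obtain ⟨s1, s3, s4, ⟨e1, e2⟩, -⟩ := h.dim4 hL h2 (h.WW_ne hL h2 hρ)
  obtain ⟨e3, e4⟩ := h.frk (ρ := ρ) hL h2
  refine ⟨by omega, ?_, by omega⟩
  rw [← Submodule.finrank_eq_zero (R := F)]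
  omega

theorem is_cusp (hL : SU3 σ L) (h2 : (2 : F) ≠ 0) (hρ : ∀ g, ρ g = 1 → g = 1) (h12 : finrank F V = 12) :
    Cusp σ L fun g => LinearMap.trace F V (ρ g) where
  conj x g := by
    rw [map_mul, LinearMap.trace_mul_comm, ← map_mul]
    congr 2
    group
  one := by
    rw [map_one]
    have : (1 : Module.End F V) = LinearMap.id := rfl
    rw [this, LinearMap.trace_id, h12]
    norm_num
  tv := by
    intro u c z hu0 hu hc hc0 hz
    have h := hL.fld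
    obtain ⟨k, hk0, hk⟩ := h.norm_surj hc hc0
    -- `z` is conjugate to a transvection with parameter 1
    have hz' : IsT σ L (k • u) 1 z := by
      intro v
      rw [hz v, LinearMap.map_smulₛₗ₂, h.conj, smul_eq_mul, smul_smul, ← hk]
      congr 2
      ring
    have hu0' := smul_ne_zero hk0 hu0
    have hu' : stB σ 3 (k • u) (k • u) = 0 := by
      rw [map_smul, LinearMap.map_smulₛₗ₂, hu, smul_zero, smul_zero]
    obtain ⟨w, hw⟩ := exists_cube h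
    obtain ⟨z1, z2, z3, hR⟩ := hL.exists_Rt hu0' hu' hw
    have e1 : z1 = z := hR.h1.eq hL hz'
    obtain ⟨-, -, e2⟩ := hR.twelve hL h2 hρ h12
    rw [← e1]
    have q1 := hR.h1.sq hL hR.hu
    rw [inv_trace h2 (A := ρ z1) (fun v => by rw [← rho_mul, q1, map_one]; rfl), e2, h12]
    norm_num
  rel := by
    intro u w z1 z2 z3 hu0 hu hw hz1 hz2 hz3 g
    have hR : Rt σ L u w z1 z2 z3 := ⟨hu0, hu, hw, hz1, hz2, hz3⟩
    obtain ⟨-, e1, -⟩ := hR.twelve hL h2 hρ h12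
    have m12 := hR.m12 hL
    have m21 := hR.m21 hL
    have q1 := hR.h1.sq hL hR.hu
    have q2 := hR.h2.sq hL hR.hu
    have e2 : (1 : Module.End F V) + ρ z1 + ρ z2 + ρ z3 = 0 := by
      refine LinearMap.ext fun v => ?_
      show v + ρ z1 v + ρ z2 v + ρ z3 v = 0
      have e3 : v + ρ z1 v + ρ z2 v + ρ z3 v ∈ posS (posS ⊤ (ρ z1)) (ρ z2) := by
        rw [mem_posS, mem_posS]
        refine ⟨⟨trivial, ?_⟩, ?_⟩
        · simp only [map_add]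
          rw [← rho_mul z1 z1, ← rho_mul z1 z2, ← rho_mul z1 z3, q1, m12, ← m12, ← mul_assoc, q1, one_mul, map_one]
          show ρ z1 v + v + ρ (z1 * z2) v + ρ z2 v = v + ρ z1 v + ρ z2 v + ρ (z1 * z2) v
          abel
        · simp only [map_add]
          rw [← rho_mul z2 z1, ← rho_mul z2 z2, ← rho_mul z2 z3, q2, m21, ← m21, ← mul_assoc, q2, one_mul, map_one]
          show ρ z2 v + ρ (z2 * z1) v + v + ρ z1 v = v + ρ z1 v + ρ z2 v + ρ (z2 * z1) v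
          abel
      rw [e1] at e3
      exact (Submodule.mem_bot F).mp e3
    have e3 := congrArg (fun A => LinearMap.trace F V (ρ g * A)) e2
    simp only [mul_add, mul_one, mul_zero, map_add, map_zero, ← map_mul] at e3
    exact e3

theorem no_form (hL : SU3 σ L) (h2 : (2 : F) ≠ 0) (hρ : ∀ g, ρ g = 1 → g = 1) (h12 : finrank F V = 12)
    {B : V →ₗ[F] V →ₗ[F] F} (hs : ∀ v w, B v w = B w v) (hB : ∀ g v w, B (ρ g v) (ρ g w) = B v w) :
    ∃ v, v ≠ 0 ∧ ∀ w, B v w = 0 := by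
  obtain ⟨u, hu0, hu⟩ := exists_iso_vec hL.fld
  obtain ⟨w, hw⟩ := exists_cube hL.fld
  obtain ⟨z1, z2, z3, h⟩ := hL.exists_Rt hu0 hu hw
  obtain ⟨s1, s3, s4, ⟨e1, e2⟩, t1, t3, t4, c34, q3, q4⟩ := h.dim4 hL h2 (h.WW_ne hL h2 hρ)
  have e3 := (h.twelve hL h2 hρ h12).1
  obtain ⟨v, hv, hv0, hvw⟩ := quat_form h2 (E := posS (WW ρ z1 z2) (ρ s1)) (X := ρ s3) (Y := ρ s4) (by omega) t3 t4 c34
    q3 q4 hs (hB s3) (hB s4)
  refine ⟨v, hv0, fun x => ?_⟩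
  obtain ⟨hvW, hs1v⟩ := mem_posS.mp hv
  obtain ⟨hv1, hv2⟩ := mem_WW.mp hvW
  have m12 := h.m12 hL
  have m21 := h.m21 hL
  have q1 := h.h1.sq hL h.hu
  have q2 := h.h2.sq hL h.hu
  have sq : ∀ {z : G}, z * z = 1 → ∀ v : V, ρ z (ρ z v) = v := fun hz v => by
    rw [← rho_mul, hz, map_one]; rfl
  have c12 : ∀ v : V, ρ z1 (ρ z2 v) = ρ z2 (ρ z1 v) := fun v => by rw [← rho_mul, ← rho_mul, m12, m21]
  -- projections
  have p1 : 2 * B v x = B v (x + ρ z1 x) := by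
    have := hB z1 v x
    rw [hv1] at this
    rw [map_add, this]; ring
  have p2 : ∀ y, 2 * B v y = B v (y - ρ z2 y) := fun y => by
    have := hB z2 v y
    rw [hv2, map_neg, LinearMap.neg_apply] at this
    rw [map_sub]
    linear_combination - this
  have p3 : ∀ y, 2 * B v y = B v (y + ρ s1 y) := fun y => by
    have := hB s1 v y
    rw [hs1v] at this
    rw [map_add, this]; ring
  set y1 := x + ρ z1 x with hy1
  set y2 := y1 - ρ z2 y1 with hy2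
  have f1 : ρ z1 y1 = y1 := by rw [hy1, map_add, sq q1, add_comm]
  have f2 : y2 ∈ WW ρ z1 z2 := by
    refine mem_WW.mpr ⟨?_, ?_⟩
    · rw [hy2, map_sub, c12, f1]
    · rw [hy2, map_sub, sq q2, neg_sub]
  have f3 : y2 + ρ s1 y2 ∈ posS (WW ρ z1 z2) (ρ s1) := by
    obtain ⟨g1, g2⟩ := t1 y2 f2
    exact mem_posS.mpr ⟨(WW ρ z1 z2).add_mem f2 g1, by rw [map_add, g2, add_comm]⟩
  have f4 : (2 * 2 * 2 : F) * B v x = 0 := by
    have h3 := hvw _ f3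
    rw [← p3, ← p2, ← p1] at h3
    linear_combination h3
  exact (mul_eq_zero.mp f4).resolve_left (mul_ne_zero (mul_ne_zero h2 h2) h2)

/-- The inverse of a cuspidal function. -/
theorem Cusp.inv (hL : SU3 σ L) {θ : G → F} (hθ : Cusp σ L θ) : Cusp σ L fun g => θ g⁻¹ where
  conj x g := by
    have := hθ.conj x g⁻¹
    rw [← this]
    congr 1
    group
  rel := by
    intro u w z1 z2 z3 hu0 hu hw hz1 hz2 hz3 g
    have key : ∀ {c : K} {z : G}, IsT σ L u c z → θ (g * z)⁻¹ = θ (g⁻¹ * z) := by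
      intro c z hz
      have h1 : z⁻¹ = z := inv_eq_of_mul_eq_one_left (hz.sq hL hu)
      rw [mul_inv_rev, h1, hθ.comm]
    have := hθ.rel hu0 hu hw hz1 hz2 hz3 g⁻¹
    rw [key hz1, key hz2, key hz3]
    exact this
  one := by rw [inv_one]; exact hθ.one
  tv := by
    intro u c z hu0 hu hc hc0 hz
    have h1 : z⁻¹ = z := inv_eq_of_mul_eq_one_left (hz.sq hL hu)
    rw [h1]
    exact hθ.tv hu0 hu hc hc0 hz

theorem trace_eq (hL : SU3 σ L) (h2 : (2 : F) ≠ 0) (hρ : ∀ g, ρ g = 1 → g = 1) (h12 : finrank F V = 12) (g : G) :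
    LinearMap.trace F V (ρ g) = (chi σ L g : F) := (is_cusp hL h2 hρ h12).eq_chi hL h2 g

theorem trace_inv (hL : SU3 σ L) (h2 : (2 : F) ≠ 0) (hρ : ∀ g, ρ g = 1 → g = 1) (h12 : finrank F V = 12) (g : G) :
    LinearMap.trace F V (ρ g⁻¹) = LinearMap.trace F V (ρ g) := by
  rw [trace_eq hL h2 hρ h12 g]
  exact ((is_cusp hL h2 hρ h12).inv hL).eq_chi hL h2 g

end Cfsg.Agent.H881.U34
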