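import Cfsg.Agent.H881.U34.Cusp

/-!
Elements of `SU₃(4)` fixing an isotropic point with eigenvalue `t`, `t ^ 5 = 1`: standard form.
-/

set_option autoImplicit false
set_option linter.unusedSectionVars false
set_option linter.unusedVariables false

namespace Cfsg.Agent.H881.U34

open Module Cfsg.Agent.ClassicalGeometry Cfsg.Agent.H880

variable {K : Type*} [Field K] [Fintype K] {σ : K →+* K} {G : Type*} [Group G]
  {L : G →* ((Fin 3 → K) ≃ₗ[K] (Fin 3 → K))} {F : Type*} [Field F] {θ : G → F}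

/-- `g u = t u`, `g v = t ^ 3 v`, `g w = t (w + e u)` on a frame. -/
def Std (σ : K →+* K) (L : G →* ((Fin 3 → K) ≃ₗ[K] (Fin 3 → K))) (e t : K) (g : G) : Prop :=
  ∃ u v w, Frame σ u v w ∧ L g u = t • u ∧ L g v = t ^ 3 • v ∧ L g w = t • (w + e • u)

theorem Frame.ne (h : Fld σ) {u v w : Fin 3 → K} (hf : Frame σ u v w) : u ≠ 0 := by
  rintro rfl
  have := hf.uw
  rw [map_zero] at this
  exact zero_ne_one this

theorem std_eq (hL : SU3 σ L) (hθ : Cusp σ L θ) {e t : K} {g g' : G} (hg : Std σ L e t g) (hg' : Std σ L e t g') :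
    θ g = θ g' := by
  obtain ⟨u, v, w, hf, h1, h2, h3⟩ := hg
  obtain ⟨u', v', w', hf', h1', h2', h3'⟩ := hg'
  obtain ⟨x, s, hs, x1, x2, x3⟩ := hL.of_frames hf hf'
  have e1 : x * g = g' * x := by
    apply hL.inj
    apply LinearEquiv.toLinearMap_injective
    apply hf.ext hL.fld
    · show L (x * g) u = L (g' * x) u
      rw [map_mul, map_mul, LinearEquiv.mul_apply, LinearEquiv.mul_apply, h1, map_smul, x1, h1']
    · show L (x * g) v = L (g' * x) v
      rw [map_mul, map_mul, LinearEquiv.mul_apply, LinearEquiv.mul_apply, h2, map_smul, x3, map_smul, h2', smul_comm]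
    · show L (x * g) w = L (g' * x) w
      rw [map_mul, map_mul, LinearEquiv.mul_apply, LinearEquiv.mul_apply, h3, map_smul, map_add, map_smul, x1, x2, h3']
  have e2 : x * g * x⁻¹ = g' := by rw [e1, mul_inv_cancel_right]
  rw [← e2, hθ.conj]

theorem Frame.scale (h : Fld σ) {u v w : Fin 3 → K} (hf : Frame σ u v w) {k : K} (hk : k ≠ 0) :
    Frame σ (k • u) v ((k ^ 4)⁻¹ • w) :=
  { uu := by rw [map_smul, LinearMap.map_smulₛₗ₂, hf.uu, smul_zero, smul_zero]
    uv := by rw [LinearMap.map_smulₛₗ₂, hf.uv, smul_zero]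
    uw := by
      rw [map_smul, LinearMap.map_smulₛₗ₂, hf.uw, h.conj, smul_eq_mul, smul_eq_mul, mul_one,
        inv_mul_cancel₀ (pow_ne_zero 4 hk)]
    vv := hf.vv
    vw := by rw [map_smul, hf.vw, smul_zero]
    ww := by rw [map_smul, LinearMap.map_smulₛₗ₂, hf.ww, smul_zero, smul_zero] }

theorem Std.scale (h : Fld σ) {e t : K} {g : G} (hg : Std σ L e t g) (he : e ^ 4 = e) (he0 : e ≠ 0) :
    Std σ L 1 t g := by
  obtain ⟨u, v, w, hf, h1, h2, h3⟩ := hg
  obtain ⟨k, hk0, hk⟩ := h.norm_surj he he0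
  refine ⟨k • u, v, (k ^ 4)⁻¹ • w, hf.scale h hk0, by rw [map_smul, h1, smul_comm], h2, ?_⟩
  rw [map_smul, h3, smul_comm, smul_add, smul_smul, one_smul]
  congr 3
  rw [← hk]
  field_simp

theorem SU3.ten_or_hom (hL : SU3 σ L) {g : G} {u : Fin 3 → K} {t : K} (hu0 : u ≠ 0) (hu : stB σ 3 u u = 0)
    (hg : L g u = t • u) (ht5 : t ^ 5 = 1) (ht1 : t ≠ 1) : ∃ e, e ^ 4 = e ∧ Std σ L e t g := by
  have h := hL.fld
  have ht : Phi t := Phi.of_pow5 ht5 ht1
  have ht0 := ht.ne_zero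
  obtain ⟨v0, w0, hf0⟩ := exists_frame h hu0 hu
  obtain ⟨b, c, d, h3, h4⟩ := hL.borel hf0 hg
  have hd : t ^ 3 - t ≠ 0 := by
    intro h1
    have h2 : t ^ 2 = 1 := by
      have : t * t ^ 2 = t * 1 := by linear_combination h1
      exact mul_left_cancel₀ ht0 this
    apply ht1
    have h3 : t ^ 5 = t := by
      calc t ^ 5 = (t ^ 2) ^ 2 * t := by ring
        _ = t := by rw [h2]; ring
    rw [← h3, ht5]
  obtain ⟨y, hy⟩ : ∃ y, y * (t ^ 3 - t) = b := ⟨b / (t ^ 3 - t), div_mul_cancel₀ _ hd⟩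
  have e1 : stB σ 3 u (v0 + y • u) = 0 := by rw [map_add, map_smul, hf0.uv, hf0.uu, smul_zero, add_zero]
  have e2 : stB σ 3 (v0 + y • u) (v0 + y • u) = 1 := by
    rw [map_add (stB σ 3), LinearMap.add_apply, LinearMap.map_smulₛₗ₂, e1, smul_zero, add_zero, map_add, map_smul,
      hf0.vv, hf0.vu h, smul_zero, add_zero]
  have e3 : L g (v0 + y • u) = t ^ 3 • (v0 + y • u) := by
    rw [map_add, map_smul, h3, hg, ← hy]
    module
  obtain ⟨w, hf⟩ := exists_w h hu0 hu e1 e2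
  generalize v0 + y • u = v at *
  obtain ⟨b', c', d', h5, h6⟩ := hL.borel hf hg
  have ht4 : (t ^ 4)⁻¹ = t := by
    rw [inv_eq_iff_eq_inv]
    symm
    apply inv_eq_of_mul_eq_one_left
    linear_combination ht5
  rw [ht4] at h6
  have hd' : d' = 0 := by
    have := hL.iso g v w
    rw [e3, h6, hf.vw] at this
    simp only [map_add, map_smul, LinearMap.map_smulₛₗ₂, smul_eq_mul, hf.vw, hf.vv, hf.vu h,
      mul_one, mul_zero, add_zero, zero_add] at this
    rcases mul_eq_zero.mp this with h7 | h7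
    · exact h7
    · rw [h.conj] at h7
      exact absurd h7 (pow_ne_zero _ (pow_ne_zero _ ht0))
  rw [hd', zero_smul, add_zero] at h6
  have hc' : t ^ 4 * c' + c' ^ 4 * t = 0 := by
    have := hL.iso g w w
    rw [h6, hf.ww] at this
    simp only [map_add, map_smul, LinearMap.add_apply, LinearMap.map_smulₛₗ₂, smul_eq_mul, hf.ww,
      hf.wu h, hf.uw, hf.uu, mul_one, mul_zero, add_zero, zero_add, h.conj] at this
    linear_combination this
  refine ⟨t ^ 4 * c', ?_, u, v, w, hf, hg, e3, ?_⟩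
  · have h7 : (t ^ 4 * c') ^ 4 = t * c' ^ 4 := by
      calc (t ^ 4 * c') ^ 4 = (t ^ 5) ^ 3 * t * c' ^ 4 := by ring
        _ = t * c' ^ 4 := by rw [ht5]; ring
    rw [h7]
    linear_combination hc' - t ^ 4 * c' * h.two
  · rw [h6, smul_add, smul_smul]
    congr 2
    linear_combination (-c') * ht5

/-- Standard elements exist. -/
theorem SU3.exists_std0 (hL : SU3 σ L) {u v w : Fin 3 → K} (hf : Frame σ u v w) {t : K} (ht5 : t ^ 5 = 1) :
    ∃ g, L g u = t • u ∧ L g v = t ^ 3 • v ∧ L g w = t • w := by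
  have h := hL.fld
  have ht0 : t ≠ 0 := by
    rintro rfl
    norm_num at ht5
  have hf' : Frame σ (t • u) v (t • w) :=
    { uu := by rw [map_smul, LinearMap.map_smulₛₗ₂, hf.uu, smul_zero, smul_zero]
      uv := by rw [LinearMap.map_smulₛₗ₂, hf.uv, smul_zero]
      uw := by
        rw [map_smul, LinearMap.map_smulₛₗ₂, hf.uw, h.conj, smul_eq_mul, smul_eq_mul, mul_one]
        linear_combination ht5
      vv := hf.vv
      vw := by rw [map_smul, hf.vw, smul_zero]
      ww := by rw [map_smul, LinearMap.map_smulₛₗ₂, hf.ww, smul_zero, smul_zero] }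
  obtain ⟨g, s, hs, h1, h2, h3⟩ := hL.of_frames hf hf'
  obtain ⟨b, c, d, h4, h5⟩ := hL.borel hf h1
  refine ⟨g, h1, ?_, h2⟩
  have h6 : s = t ^ 3 := by
    rw [h3] at h4
    have := congrArg (stB σ 3 v) h4
    rw [map_add, map_smul, map_smul, map_smul, hf.vv, hf.vu h, smul_zero, add_zero, smul_eq_mul, smul_eq_mul, mul_one,
      mul_one] at this
    exact this
  rw [h3, h6]

theorem SU3.exists_std (hL : SU3 σ L) {e t : K} (he : e ^ 4 = e) (ht5 : t ^ 5 = 1) : ∃ g, Std σ L e t g := by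
  have h := hL.fld
  obtain ⟨u, hu0, hu⟩ := exists_iso_vec h
  obtain ⟨v, w, hf⟩ := exists_frame h hu0 hu
  obtain ⟨g, h1, h2, h3⟩ := hL.exists_std0 hf ht5
  obtain ⟨z, hz⟩ := hL.exists_T hu he
  refine ⟨g * z, u, v, w, hf, ?_, ?_, ?_⟩
  · rw [map_mul, LinearEquiv.mul_apply, hz, hu, mul_zero, zero_smul, add_zero, h1]
  · rw [map_mul, LinearEquiv.mul_apply, hz, hf.uv, mul_zero, zero_smul, add_zero, h2]
  · rw [map_mul, LinearEquiv.mul_apply, hz, hf.uw, mul_one, map_add, map_smul, h1, h3]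
    module

/-- `θ (Hom t) = - 3 θ (Ten t)`. -/
theorem Cusp.hom (hL : SU3 σ L) (hθ : Cusp σ L θ) {t : K} {g g' : G} (hg : Std σ L 0 t g) (hg' : Std σ L 1 t g') :
    θ g = - 3 * θ g' := by
  have h := hL.fld
  obtain ⟨u, v, w, hf, h1, h2, h3⟩ := hg
  rw [zero_smul, add_zero] at h3
  have hu0 := hf.ne h
  have key : ∀ c : K, c ^ 4 = c → c ≠ 0 → ∀ z, IsT σ L u c z → θ (g * z) = θ g' := by
    intro c hc hc0 z hz
    refine std_eq hL hθ (Std.scale h ⟨u, v, w, hf, ?_, ?_, ?_⟩ hc hc0) hg'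
    · rw [map_mul, LinearEquiv.mul_apply, hz, hf.uu, mul_zero, zero_smul, add_zero, h1]
    · rw [map_mul, LinearEquiv.mul_apply, hz, hf.uv, mul_zero, zero_smul, add_zero, h2]
    · rw [map_mul, LinearEquiv.mul_apply, hz, hf.uw, mul_one, map_add, map_smul, h1, h3]
      module
  obtain ⟨x, hx⟩ := exists_cube h
  obtain ⟨z1, hz1⟩ := hL.exists_T hf.uu (c := 1) (one_pow 4)
  obtain ⟨z2, hz2⟩ := hL.exists_T hf.uu (cube_fix hx)
  obtain ⟨z3, hz3⟩ := hL.exists_T hf.uu (cube_fix2 hx)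
  have hr := hθ.rel hu0 hf.uu hx hz1 hz2 hz3 g
  rw [key 1 (one_pow 4) one_ne_zero z1 hz1, key x (cube_fix hx) (cube_ne_zero hx) z2 hz2,
    key (x ^ 2) (cube_fix2 hx) (pow_ne_zero 2 (cube_ne_zero hx)) z3 hz3] at hr
  linear_combination hr

/-! ### traces and the characteristic polynomial -/

theorem ta_of_frame (h : Fld σ) {u v w : Fin 3 → K} (hf : Frame σ u v w) (g : G) :
    ta L g = stB σ 3 w (L g u) + stB σ 3 v (L g v) + stB σ 3 u (L g w) := by
  unfold ta
  rw [LinearMap.trace_eq_matrix_trace K (hf.basis h), Matrix.trace_fin_three]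
  have hM : ∀ i j, LinearMap.toMatrix (hf.basis h) (hf.basis h) (L g : (Fin 3 → K) →ₗ[K] (Fin 3 → K)) i j =
      ![stB σ 3 w (L g (![u, v, w] j)), stB σ 3 v (L g (![u, v, w] j)), stB σ 3 u (L g (![u, v, w] j))] i := by
    intro i j
    rw [LinearMap.toMatrix_apply, hf.repr, hf.basis_apply]
    rfl
  rw [hM, hM, hM]
  rfl

theorem SU3.ta_eigen (hL : SU3 σ L) {g : G} {u : Fin 3 → K} {t : K} (hu0 : u ≠ 0) (hu : stB σ 3 u u = 0)
    (hg : L g u = t • u) : ta L g = t + t ^ 3 + (t ^ 4)⁻¹ := by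
  have h := hL.fld
  obtain ⟨v, w, hf⟩ := exists_frame h hu0 hu
  obtain ⟨b, c, d, h3, h4⟩ := hL.borel hf hg
  rw [ta_of_frame h hf, hg, h3, h4]
  simp only [map_add, map_smul, smul_eq_mul, hf.uu, hf.uv, hf.uw, hf.vv, hf.vu h, hf.wu h, mul_one, mul_zero,
    add_zero]

theorem SU3.ta_eigen' (hL : SU3 σ L) {g : G} {u : Fin 3 → K} {t : K} (hu0 : u ≠ 0) (hu : stB σ 3 u u = 0)
    (hg : L g u = t • u) (ht : t ^ 5 = 1) : ta L g = t ^ 3 := by
  rw [hL.ta_eigen hu0 hu hg]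
  have ht4 : (t ^ 4)⁻¹ = t := by
    rw [inv_eq_iff_eq_inv]
    symm
    apply inv_eq_of_mul_eq_one_left
    linear_combination ht
  rw [ht4]
  linear_combination t * hL.fld.two

theorem ta_one (h : Fld σ) : ta L (1 : G) = 1 := by
  unfold ta
  rw [map_one]
  have : (((1 : (Fin 3 → K) ≃ₗ[K] (Fin 3 → K)) : (Fin 3 → K) →ₗ[K] (Fin 3 → K))) = LinearMap.id := rfl
  rw [this, LinearMap.trace_id]
  simp
  linear_combination h.two

/-- Cayley–Hamilton for `3 × 3` matrices. -/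
theorem ch3 {R : Type*} [CommRing R] (M : Matrix (Fin 3) (Fin 3) R) :
    M * M * M = M.trace • (M * M) - M.adjugate.trace • M + M.det • 1 := by
  ext i j
  simp only [Matrix.adjugate_fin_three, Matrix.trace_fin_three, Matrix.det_fin_three, Matrix.mul_apply,
    Fin.sum_univ_three, Matrix.add_apply, Matrix.sub_apply, Matrix.smul_apply, Matrix.one_apply, smul_eq_mul]
  fin_cases i <;> fin_cases j <;> simp <;> ring

theorem det3 {R : Type*} [CommRing R] (M : Matrix (Fin 3) (Fin 3) R) (t : R) :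
    (M - t • 1).det = - (t ^ 3 - M.trace * t ^ 2 + M.adjugate.trace * t - M.det) := by
  simp only [Matrix.adjugate_fin_three, Matrix.trace_fin_three, Matrix.det_fin_three, Matrix.sub_apply,
    Matrix.smul_apply, Matrix.one_apply, smul_eq_mul]
  simp
  ring

theorem SU3.mat (hL : SU3 σ L) (g : G) : (LinearMap.toMatrix' (L g : (Fin 3 → K) →ₗ[K] (Fin 3 → K))).adjugate.trace =
    (ta L g) ^ 4 := by
  set M := LinearMap.toMatrix' (L g : (Fin 3 → K) →ₗ[K] (Fin 3 → K)) with hM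
  have hdet : M.det = 1 := by rw [hM, LinearMap.det_toMatrix']; exact hL.det g
  have h1 : (M.map σ).transpose * M = 1 := iso_unit (fun x y => by
    rw [LinearMap.toMatrix'_mulVec, LinearMap.toMatrix'_mulVec]
    exact hL.iso g x y)
  have h2 : M.adjugate = (M.map σ).transpose := by
    have h3 : M * M.adjugate = 1 := by rw [Matrix.mul_adjugate, hdet, one_smul]
    calc M.adjugate = ((M.map σ).transpose * M) * M.adjugate := by rw [h1, one_mul]
      _ = (M.map σ).transpose := by rw [mul_assoc, h3, mul_one]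
  rw [h2, Matrix.trace_transpose]
  have h4 : ta L g = M.trace := by
    unfold ta
    rw [hM, LinearMap.trace_eq_matrix_trace K (Pi.basisFun K (Fin 3)), LinearMap.toMatrix_eq_toMatrix']
  rw [h4, ← hL.fld.conj]
  simp only [Matrix.trace_fin_three, Matrix.map_apply, map_add]

theorem ta_mat (g : G) : (LinearMap.toMatrix' (L g : (Fin 3 → K) →ₗ[K] (Fin 3 → K))).trace = ta L g := by
  unfold ta
  rw [LinearMap.trace_eq_matrix_trace K (Pi.basisFun K (Fin 3)), LinearMap.toMatrix_eq_toMatrix']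

theorem SU3.ch (hL : SU3 σ L) (g : G) (x : Fin 3 → K) :
    L g (L g (L g x)) = ta L g • L g (L g x) - (ta L g) ^ 4 • L g x + x := by
  have h1 := ch3 (LinearMap.toMatrix' (L g : (Fin 3 → K) →ₗ[K] (Fin 3 → K)))
  rw [hL.mat, ta_mat, LinearMap.det_toMatrix', hL.det g, one_smul] at h1
  have h2 := congrArg (fun M => M.mulVec x) h1
  simp only [Matrix.add_mulVec, Matrix.sub_mulVec, Matrix.smul_mulVec, ← Matrix.mulVec_mulVec,
    LinearMap.toMatrix'_mulVec, Matrix.one_mulVec] at h2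
  exact h2

theorem SU3.root (hL : SU3 σ L) (g : G) {t : K} (ht : t ^ 3 - ta L g * t ^ 2 + (ta L g) ^ 4 * t - 1 = 0) :
    ∃ x, x ≠ 0 ∧ L g x = t • x := by
  have h1 := det3 (LinearMap.toMatrix' (L g : (Fin 3 → K) →ₗ[K] (Fin 3 → K))) t
  rw [hL.mat, ta_mat, LinearMap.det_toMatrix', hL.det g, ht, neg_zero] at h1
  obtain ⟨x, hx0, hx⟩ := Matrix.exists_mulVec_eq_zero_iff.mpr h1
  refine ⟨x, hx0, ?_⟩
  rw [Matrix.sub_mulVec, Matrix.smul_mulVec, LinearMap.toMatrix'_mulVec, Matrix.one_mulVec, sub_eq_zero] at hx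
  exact hx

end Cfsg.Agent.H881.U34
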