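import Cfsg.Agent.H881.U34.Rel

/-!
The character of degree 12 of `SU₃(4)`: explicit values.
-/

set_option autoImplicit false
set_option linter.unusedSectionVars false
set_option linter.unusedVariables false

namespace Cfsg.Agent.H881.U34

open Module Cfsg.Agent.ClassicalGeometry Cfsg.Agent.H880

variable {K : Type*} [Field K] [Fintype K] {σ : K →+* K} {G : Type*} [Group G]
  {L : G →* ((Fin 3 → K) ≃ₗ[K] (Fin 3 → K))} {F : Type*} [Field F] {θ : G → F}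

/-- Cube roots of unity in terms of fifth roots of unity. -/
theorem cube_phi (h : Fld σ) {a : K} (ha : a ^ 2 + a + 1 = 0) : ∃ r, Phi r ∧ a = 1 + r + r ^ 4 := by
  obtain ⟨r, hr⟩ := h.exists_phi
  have h2' := h.two
  have hr' : r ^ 4 + r ^ 3 + r ^ 2 + r + 1 = 0 := hr
  have hw := hr.w h
  have h1 : (a - (1 + r + r ^ 4)) * (a - (1 + r ^ 2 + (r ^ 2) ^ 4)) = 0 := by
    linear_combination ha + (r ^ 8 + (-1) * r ^ 7 + r ^ 5 + (-1) * r ^ 4 * a + r ^ 3 * a + (-1) * r + (-1) * a + 2) * hr' +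
      ((-1) * a + (-1)) * h2'
  rcases mul_eq_zero.mp h1 with h3 | h3
  · exact ⟨r, hr, sub_eq_zero.mp h3⟩
  · exact ⟨r ^ 2, hr.pow (Or.inl rfl), sub_eq_zero.mp h3⟩

/-- Transvections for opposite isotropic points. -/
theorem SU3.opp (hL : SU3 σ L) : ∃ z : G, (∃ u, u ≠ 0 ∧ stB σ 3 u u = 0 ∧ IsT σ L u 1 z) ∧ ta L z = 1 ∧ Att σ L z 1 := by
  have h := hL.fld
  obtain ⟨u, hu0, hu⟩ := exists_iso_vec h
  obtain ⟨v, w, hf⟩ := exists_frame h hu0 hu
  obtain ⟨z, hz⟩ := hL.exists_T hf.uu (c := 1) (one_pow 4)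
  have hw0 : w ≠ 0 := by
    rintro rfl
    have := hf.uw
    rw [map_zero] at this
    exact zero_ne_one this
  refine ⟨z, ⟨u, hu0, hu, hz⟩, ?_, w, hw0, hf.ww, ?_⟩
  · have := ta_mul_T (L := L) 1 hz
    rw [one_mul, ta_one h, map_one] at this
    rw [this]
    have : stB σ 3 u ((1 : (Fin 3 → K) ≃ₗ[K] (Fin 3 → K)) u) = 0 := hu
    rw [this, mul_zero, add_zero]
  · rw [hz, map_add, map_smul, hf.ww, hf.uw, hf.wu h, mul_one, smul_eq_mul, mul_one, zero_add]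

theorem SU3.exists_cube (hL : SU3 σ L) {a : K} (ha : a ^ 2 + a + 1 = 0) : ∃ g, ta L g = a := by
  obtain ⟨z, -, hz, u, hu0, hu, hs⟩ := hL.opp
  obtain ⟨z', hz'⟩ := hL.exists_T hu (cube_fix2 ha)
  refine ⟨z * z', ?_⟩
  rw [ta_mul_T z hz', hz, hs]
  linear_combination ha - a * hL.fld.two

theorem SU3.exists_13 (hL : SU3 σ L) {r : K} (hr : Phi r) : ∃ g, ta L g = 1 + r := by
  have h := hL.fld
  have h2' := h.two
  have hr' : r ^ 4 + r ^ 3 + r ^ 2 + r + 1 = 0 := hr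
  have hcube : (1 + r + r ^ 4) ^ 2 + (1 + r + r ^ 4) + 1 = 0 := by
    linear_combination (r ^ 4 + (-1) * r ^ 3 + 2 * r + 1) * hr' + ((-1) * r ^ 3 + (-1) * r ^ 2 + 1) * h2'
  obtain ⟨g, hg⟩ := hL.exists_cube hcube
  obtain ⟨u, hu0, hu, hs⟩ := hL.att_cube hr hg
  obtain ⟨z', hz'⟩ := hL.exists_T hu (c := 1) (one_pow 4)
  refine ⟨g * z', ?_⟩
  rw [ta_mul_T g hz', hg, hs]
  linear_combination (2) * hr' + ((-1) * r ^ 3 + (-1) * r ^ 2 + (-1) * r + (-1)) * h2'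

/-- All values in terms of one of them. -/
theorem Cusp.delta (hL : SU3 σ L) (h2 : (2 : F) ≠ 0) (hθ : Cusp σ L θ) :
    (∀ t, t ^ 5 = 1 → t ≠ 1 → ∀ g, Std σ L 1 t g → θ g = 1) ∧ (∀ r g, Phi r → ta L g = 1 + r → θ g = -1) ∧
      (∀ a g, a ^ 2 + a + 1 = 0 → ta L g = a → θ g = 2) := by
  have h := hL.fld
  have h2' := h.two
  have hD0 : ∀ t : K, ∃ d : F, t ^ 5 = 1 → ∀ g, Std σ L 1 t g → θ g = d := by
    intro t
    by_cases ht : t ^ 5 = 1
    · obtain ⟨g0, hg0⟩ := hL.exists_std (e := 1) (one_pow 4) ht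
      exact ⟨θ g0, fun _ g hg => std_eq hL hθ hg hg0⟩
    · exact ⟨0, fun h1 => absurd h1 ht⟩
  choose D hD1 using hD0
  have hD : ∀ t, t ^ 5 = 1 → t ≠ 1 → ∀ g, Std σ L 1 t g → θ g = D t := fun t ht _ g hg => hD1 t ht g hg
  have inv : ∀ r, Phi r → D r = D (r ^ 4) := by
    intro r hr
    obtain ⟨g, hg⟩ := hL.exists_13 hr
    have e1 := hθ.relA hL h2 hD hr hg
    have e2 := hθ.relB hL h2 hD hr hg
    rw [e1] at e2
    exact neg_injective e2
  have sq : ∀ r, Phi r → D r = D (r ^ 2) := by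
    intro r hr
    have hr2 : Phi (r ^ 2) := hr.pow (Or.inl rfl)
    have hr4 : Phi (r ^ 4) := hr.pow (Or.inr (Or.inr rfl))
    obtain ⟨g, hg⟩ := hL.exists_13 hr
    have e1 := hθ.relA hL h2 hD hr hg
    obtain ⟨g', hg', e2⟩ := hθ.relC hL h2 hD hr hg
    have e3 := hθ.relA hL h2 hD hr4 hg'
    have e4 := inv (r ^ 2) hr2
    have e5 : (r ^ 2) ^ 4 = r ^ 3 := by linear_combination r ^ 3 * hr.pow5
    rw [e5] at e4
    rw [e1, e3, ← e4, ← inv r hr] at e2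
    have e6 : (2 : F) * (D r - D (r ^ 2)) = 0 := by linear_combination -e2
    exact sub_eq_zero.mp ((mul_eq_zero.mp e6).resolve_left h2)
  obtain ⟨r, hr⟩ := h.exists_phi
  have hr2 : Phi (r ^ 2) := hr.pow (Or.inl rfl)
  have all : ∀ s, Phi s → D s = D r := by
    intro s hs
    rcases hr.mem hs.pow5 with rfl | rfl | rfl | rfl | rfl
    · exact absurd rfl (hs.ne_one h)
    · rfl
    · exact (sq r hr).symm
    · rw [sq r hr, inv (r ^ 2) hr2]
      congr 1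
      linear_combination (-r ^ 3) * hr.pow5
    · exact (inv r hr).symm
  have v13 : ∀ r' g, Phi r' → ta L g = 1 + r' → θ g = - D r := by
    intro r' g hr' hg
    rw [hθ.relA hL h2 hD hr' hg, all r' hr']
  have v3 : ∀ a g, a ^ 2 + a + 1 = 0 → ta L g = a → θ g = 2 * D r := by
    intro a g ha hg
    obtain ⟨s, hs, rfl⟩ := cube_phi h ha
    have hs' : s ^ 4 + s ^ 3 + s ^ 2 + s + 1 = 0 := hs
    obtain ⟨u, z1, z2, z3, hz1, hz2, hz3, t1, t2, t3, hrel⟩ := hθ.att hL (hL.att_cube hs hg) ha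
    rw [hg] at t1 t2 t3
    have e1 := v13 s (g * z1) hs (by
      rw [t1]
      linear_combination (2) * hs' + ((-1) * s ^ 3 + (-1) * s ^ 2 + (-1) * s + (-1)) * h2')
    have e2 : θ (g * z2) = 0 := hθ.ta_15 hL h2 (a := s + s ^ 3) (by
      linear_combination (s ^ 8 + (-1) * s ^ 7 + 4 * s ^ 6 + (-4) * s ^ 5 + 6 * s ^ 4 + (-5) * s ^ 3 + 3 * s ^ 2 +
        (-3)) * hs' + (3 * s ^ 3 + 2 * s + 2) * h2') (by
      rw [t2]
      linear_combination (s ^ 4 + (-1) * s ^ 3 + s + 1) * hs' + ((-1) * s ^ 3 + (-1) * s ^ 2 + (-1) * s) * h2')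
    have e3 := v13 (s ^ 2) (g * z3) (hs.pow (Or.inl rfl)) (by
      rw [t3]
      linear_combination (s ^ 8 + (-1) * s ^ 7 + 2 * s ^ 5 + (-1) * s ^ 3 + s + 2) * hs' +
        ((-1) * s ^ 3 + (-2) * s ^ 2 + (-1) * s + (-1)) * h2')
    rw [e1, e2, e3] at hrel
    linear_combination hrel
  have one : D r = 1 := by
    obtain ⟨z, ⟨u, hu0, hu, hz⟩, hta, hatt⟩ := hL.opp
    obtain ⟨w, hw⟩ := U34.exists_cube h
    obtain ⟨u', z1, z2, z3, hz1, hz2, hz3, t1, t2, t3, hrel⟩ := hθ.att hL hatt hw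
    rw [hta] at t1 t2 t3
    have e0 := hθ.tv hu0 hu (one_pow 4) one_ne_zero hz
    have e1 : θ (z * z1) = 0 := hθ.ta_zero hL h2 (by rw [t1]; linear_combination h2')
    have e2 := v3 (w ^ 2) (z * z2) (by linear_combination (w ^ 2 - w + 1) * hw) (by
      rw [t2]
      linear_combination (-1 : K) * hw + (w + 1) * h2')
    have e3 := v3 w (z * z3) hw (by
      rw [t3]
      linear_combination hw - w * h2')
    rw [e0, e1, e2, e3] at hrel
    have e4 : (2 * 2 : F) * (D r - 1) = 0 := by linear_combination hrel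
    exact sub_eq_zero.mp ((mul_eq_zero.mp e4).resolve_left (mul_ne_zero h2 h2))
  refine ⟨fun t ht ht1 g hg => ?_, fun r' g hr' hg => ?_, fun a g ha hg => ?_⟩
  · rw [hD t ht ht1 g hg, all t (Phi.of_pow5 ht ht1), one]
  · rw [v13 r' g hr' hg, one]
  · rw [v3 a g ha hg, one, mul_one]

/-! ### the character -/

open Classical in
/-- The character of degree 12. -/
noncomputable def chi (σ : K →+* K) (L : G →* ((Fin 3 → K) ≃ₗ[K] (Fin 3 → K))) (g : G) : ℤ :=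
  if g = 1 then 12
  else if ∃ u c, u ≠ 0 ∧ stB σ 3 u u = 0 ∧ c ^ 4 = c ∧ c ≠ 0 ∧ IsT σ L u c g then -4
  else if ∃ t, t ^ 5 = 1 ∧ t ≠ 1 ∧ Std σ L 0 t g then -3
  else if Phi (ta L g) then 1
  else if (ta L g) ^ 2 + ta L g + 1 = 0 then 2
  else if (ta L g) ^ 4 + (ta L g) ^ 3 + 1 = 0 then -1
  else 0

theorem Cusp.eq_chi (hL : SU3 σ L) (h2 : (2 : F) ≠ 0) (hθ : Cusp σ L θ) (g : G) : θ g = (chi σ L g : F) := by
  have h := hL.fld
  have h2' := h.two
  obtain ⟨v1, v2, v3⟩ := hθ.delta hL h2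
  unfold chi
  split_ifs with c1 c2 c3 c4 c5 c6
  · rw [c1, hθ.one]; norm_num
  · obtain ⟨u, c, hu0, hu, hc, hc0, hT⟩ := c2
    rw [hθ.tv hu0 hu hc hc0 hT]; norm_num
  · obtain ⟨t, ht5, ht1, hst⟩ := c3
    obtain ⟨g', hg'⟩ := hL.exists_std (e := 1) (one_pow 4) ht5
    rw [hθ.hom hL hst hg', v1 t ht5 ht1 g' hg']; norm_num
  · -- trace a fifth root of unity
    have hp2 : Phi ((ta L g) ^ 2) := c4.pow (Or.inl rfl)
    have e1 : ta L g = ((ta L g) ^ 2) ^ 3 := by linear_combination (-ta L g) * c4.pow5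
    obtain ⟨u, hu0, hu, hgu⟩ := hL.exists_iso_eigen hp2.pow5 e1
    obtain ⟨e, he, hst⟩ := hL.ten_or_hom hu0 hu hgu hp2.pow5 (hp2.ne_one h)
    have he0 : e ≠ 0 := by
      rintro rfl
      exact c3 ⟨_, hp2.pow5, hp2.ne_one h, hst⟩
    rw [v1 _ hp2.pow5 (hp2.ne_one h) g (hst.scale h he he0)]; norm_num
  · rw [v3 _ g c5 rfl]; norm_num
  · have hp : Phi (1 + ta L g) := by
      unfold Phi
      linear_combination c6 + (2 * (ta L g) ^ 3 + 5 * (ta L g) ^ 2 + 5 * ta L g + 2) * h2'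
    rw [v2 _ g hp (by linear_combination - h2')]; norm_num
  · rcases h.cases (ta L g) with h1 | h1 | h1 | h1 | h1 | h1
    · rw [hθ.ta_zero hL h2 h1]; norm_num
    · obtain ⟨u, hu0, hu, hgu⟩ := hL.exists_iso_eigen (one_pow 5) (by rw [h1, one_pow])
      rw [one_smul] at hgu
      rw [hθ.unip hL h2 hu0 hu hgu fun c hc hT => ?_]
      · norm_num
      · by_cases hc0 : c = 0
        · rw [hc0] at hT
          exact c1 (hT.zero hL)
        · exact c2 ⟨u, c, hu0, hu, hc, hc0, hT⟩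
    · exact absurd h1 c5
    · exact absurd h1 c4
    · rw [hθ.ta_15 hL h2 h1 rfl]; norm_num
    · exact absurd h1 c6

end Cfsg.Agent.H881.U34
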